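import Cfsg.Agent.H35.BNParabolic

/-!
# The chamber system `G / B` of a (B, N)-pair: Weyl distance, valencies, adjacency matrices
-/

set_option autoImplicit false

namespace Cfsg.Agent.H35.BN

variable {G : Type*} [Group G] {P : BNPair G}

variable (P) in
/-- The Weyl distance between two chambers `x B` and `y B`. -/
noncomputable def wdist (x y : G ⧸ P.B) : W P := bruhat P ((Quotient.out x)⁻¹ * Quotient.out y)

theorem wdist_mk (g h : G) : wdist P (g : G ⧸ P.B) (h : G ⧸ P.B) = bruhat P (g⁻¹ * h) := by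
  unfold wdist
  obtain ⟨b, hb⟩ := QuotientGroup.mk_out_eq_mul P.B g
  obtain ⟨b', hb'⟩ := QuotientGroup.mk_out_eq_mul P.B h
  rw [hb, hb', mul_inv_rev, mul_assoc, bruhat_mul_left (P.B.inv_mem b.2), ← mul_assoc,
    bruhat_mul_right b'.2]

theorem wdist_eq_one_iff {x y : G ⧸ P.B} : wdist P x y = 1 ↔ x = y := by
  obtain ⟨g, rfl⟩ := QuotientGroup.mk_surjective x
  obtain ⟨h, rfl⟩ := QuotientGroup.mk_surjective y
  rw [wdist_mk, bruhat_eq_one_iff, QuotientGroup.eq]

theorem wdist_self (x : G ⧸ P.B) : wdist P x x = 1 := wdist_eq_one_iff.2 rfl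

theorem wdist_symm (x y : G ⧸ P.B) : wdist P y x = (wdist P x y)⁻¹ := by
  obtain ⟨g, rfl⟩ := QuotientGroup.mk_surjective x
  obtain ⟨h, rfl⟩ := QuotientGroup.mk_surjective y
  rw [wdist_mk, wdist_mk, ← bruhat_inv]; simp

theorem wdist_smul (g : G) (x y : G ⧸ P.B) : wdist P (g • x) (g • y) = wdist P x y := by
  obtain ⟨a, rfl⟩ := QuotientGroup.mk_surjective x
  obtain ⟨b, rfl⟩ := QuotientGroup.mk_surjective y
  rw [MulAction.Quotient.smul_mk, MulAction.Quotient.smul_mk, wdist_mk, wdist_mk]
  congr 1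
  simp only [smul_eq_mul]
  group

/-- `G` is transitive on the pairs of chambers at a given Weyl distance. -/
theorem exists_smul_eq_of_wdist_eq {x y x' y' : G ⧸ P.B} (h : wdist P x y = wdist P x' y') :
    ∃ g : G, g • x = x' ∧ g • y = y' := by
  obtain ⟨a, rfl⟩ := QuotientGroup.mk_surjective x
  obtain ⟨b, rfl⟩ := QuotientGroup.mk_surjective y
  obtain ⟨c, rfl⟩ := QuotientGroup.mk_surjective x'
  obtain ⟨d, rfl⟩ := QuotientGroup.mk_surjective y'
  rw [wdist_mk, wdist_mk] at h
  obtain ⟨b₁, h₁, b₂, h₂, e⟩ :=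
    exists_eq_of_mem_cell (bruhat_eq_iff.1 h) (mem_cell_bruhat (P := P) (c⁻¹ * d))
  refine ⟨c * b₁ * a⁻¹, ?_, ?_⟩
  · rw [MulAction.Quotient.smul_mk, QuotientGroup.eq, smul_eq_mul]
    simpa using h₁
  · rw [MulAction.Quotient.smul_mk, QuotientGroup.eq, smul_eq_mul]
    have : (c * b₁ * a⁻¹ * b)⁻¹ * d = b₂ := by
      rw [show d = c * (c⁻¹ * d) by group, e]; group
    rw [this]
    exact h₂

theorem exists_wdist_eq (x : G ⧸ P.B) (w : W P) : ∃ y, wdist P x y = w := by
  obtain ⟨g, rfl⟩ := QuotientGroup.mk_surjective x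
  refine ⟨(g * rep P w : G), ?_⟩
  rw [wdist_mk, inv_mul_cancel_left, bruhat_eq_iff]
  exact rep_mem_cell w

theorem wdist_s_trans {i : P.S} {x y : G ⧸ P.B} (hxy : wdist P x y = (gens P).s i)
    (z : G ⧸ P.B) :
    wdist P x z = (gens P).s i * wdist P y z ∨ wdist P x z = wdist P y z := by
  obtain ⟨a, rfl⟩ := QuotientGroup.mk_surjective x
  obtain ⟨b, rfl⟩ := QuotientGroup.mk_surjective y
  obtain ⟨c, rfl⟩ := QuotientGroup.mk_surjective z
  rw [wdist_mk, bruhat_eq_iff] at hxy
  rw [wdist_mk, wdist_mk, bruhat_eq_iff, bruhat_eq_iff]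
  have := cell_s_mul_mem_cell hxy (mem_cell_bruhat (P := P) (b⁻¹ * c))
  simpa [mul_assoc] using this

theorem wdist_trans_of_len_add {x y z : G ⧸ P.B}
    (h : (gens P).len (wdist P x y * wdist P y z) =
      (gens P).len (wdist P x y) + (gens P).len (wdist P y z)) :
    wdist P x z = wdist P x y * wdist P y z := by
  obtain ⟨a, rfl⟩ := QuotientGroup.mk_surjective x
  obtain ⟨b, rfl⟩ := QuotientGroup.mk_surjective y
  obtain ⟨c, rfl⟩ := QuotientGroup.mk_surjective z
  simp only [wdist_mk] at h ⊢
  rw [bruhat_eq_iff]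
  have := mul_mem_cell_of_len_add h (mem_cell_bruhat _) (mem_cell_bruhat _)
  simpa [mul_assoc] using this

theorem wdist_s_trans_of_le {i : P.S} {x y z : G ⧸ P.B} (hxy : wdist P x y = (gens P).s i)
    (h : (gens P).len (wdist P y z) ≤ (gens P).len ((gens P).s i * wdist P y z)) :
    wdist P x z = (gens P).s i * wdist P y z := by
  rw [← hxy]
  apply wdist_trans_of_len_add
  rw [hxy, (exchange P).len_s]
  rcases len_s_mul i (wdist P y z) with h' | h' <;> omega

theorem exists_wdist_between {x z : G ⧸ P.B} {w w' : W P} (h : wdist P x z = w * w') :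
    ∃ y, wdist P x y = w ∧ wdist P y z = w' := by
  obtain ⟨a, rfl⟩ := QuotientGroup.mk_surjective x
  obtain ⟨c, rfl⟩ := QuotientGroup.mk_surjective z
  rw [wdist_mk, bruhat_eq_iff] at h
  obtain ⟨g, hg, g', hg', e⟩ := exists_mul_of_mem_cell h
  refine ⟨(a * g : G), ?_, ?_⟩
  · rw [wdist_mk, inv_mul_cancel_left, bruhat_eq_iff]; exact hg
  · rw [wdist_mk, bruhat_eq_iff, mul_inv_rev, mul_assoc, e, inv_mul_cancel_left]; exact hg'

theorem wdist_eq_s_of_ne {i : P.S} {x y y' : G ⧸ P.B} (hy : wdist P x y = (gens P).s i)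
    (hy' : wdist P x y' = (gens P).s i) (hne : y ≠ y') : wdist P y y' = (gens P).s i := by
  have h1 : wdist P y x = (gens P).s i := by rw [wdist_symm, hy, InvGen.inv_s]
  rcases wdist_s_trans h1 y' with h | h
  · rw [hy', (gens P).s_mul_s, wdist_eq_one_iff] at h
    exact absurd h hne
  · rw [h, hy']

/-- The chamber between `x` and `z` is unique when the first step is an ascent. -/
theorem eq_of_wdist_s_between {i : P.S} {w : W P}
    (hw : (gens P).len w ≤ (gens P).len ((gens P).s i * w)) {x y y' z : G ⧸ P.B}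
    (hy : wdist P x y = (gens P).s i) (hy' : wdist P x y' = (gens P).s i)
    (hz : wdist P y z = w) (hz' : wdist P y' z = w) : y = y' := by
  by_contra hne
  have h1 := wdist_eq_s_of_ne hy hy' hne
  have h2 := wdist_s_trans_of_le h1 (z := z) (by rw [hz']; exact hw)
  rw [hz, hz'] at h2
  exact s_mul_ne i w h2.symm

/-- Thickness: every panel has at least three chambers. -/
theorem exists_two_wdist_s (i : P.S) (x : G ⧸ P.B) :
    ∃ y y', y ≠ y' ∧ wdist P x y = (gens P).s i ∧ wdist P x y' = (gens P).s i := by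
  obtain ⟨g, rfl⟩ := QuotientGroup.mk_surjective x
  obtain ⟨b, hb, h⟩ := exists_conj_not_mem i
  refine ⟨(g * i : G), (g * (b * i) : G), ?_, ?_, ?_⟩
  · rw [Ne, QuotientGroup.eq]
    intro h'
    apply h
    have := P.B.mul_mem (P.sq_mem i i.2) h'
    convert this using 1
    group
  · rw [wdist_mk, inv_mul_cancel_left, bruhat_eq_iff]; exact s_mem_cell i
  · rw [wdist_mk, inv_mul_cancel_left, bruhat_eq_iff]; exact mul_mem_cell_left hb (s_mem_cell i)

variable (P) in
/-- The valency `|B w B / B|`. -/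
noncomputable def ind (w : W P) : ℕ := Nat.card {y : G ⧸ P.B // wdist P ((1 : G) : G ⧸ P.B) y = w}

theorem card_wdist_eq (x : G ⧸ P.B) (w : W P) :
    Nat.card {y : G ⧸ P.B // wdist P x y = w} = ind P w := by
  obtain ⟨g, rfl⟩ := QuotientGroup.mk_surjective x
  unfold ind
  symm
  refine Nat.card_congr ((MulAction.toPerm g).subtypeEquiv fun y => ?_)
  rw [← wdist_smul g, MulAction.Quotient.smul_mk]
  simp

theorem ind_one : ind P 1 = 1 := by
  unfold ind
  simp only [wdist_eq_one_iff]
  simp

section Finite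

variable [Fintype (G ⧸ P.B)]

open Classical in
theorem card_filter_wdist (x : G ⧸ P.B) (w : W P) :
    (Finset.univ.filter fun y => wdist P x y = w).card = ind P w := by
  rw [← card_wdist_eq x w, Nat.card_eq_fintype_card, Fintype.card_subtype]

theorem ind_pos (w : W P) : 0 < ind P w := by
  obtain ⟨y, hy⟩ := exists_wdist_eq ((1 : G) : G ⧸ P.B) w
  have : Nonempty {y : G ⧸ P.B // wdist P ((1 : G) : G ⧸ P.B) y = w} := ⟨⟨y, hy⟩⟩
  exact Nat.card_pos

theorem two_le_ind_s (i : P.S) : 2 ≤ ind P ((gens P).s i) := by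
  obtain ⟨y, y', hne, hy, hy'⟩ := exists_two_wdist_s i ((1 : G) : G ⧸ P.B)
  have : Nontrivial {y : G ⧸ P.B // wdist P ((1 : G) : G ⧸ P.B) y = (gens P).s i} :=
    ⟨⟨y, hy⟩, ⟨y', hy'⟩, fun h => hne (congrArg Subtype.val h)⟩
  exact Finite.one_lt_card

open Classical in
variable (P) in
/-- The adjacency matrix of the pairs of chambers at Weyl distance `w`. -/
noncomputable def adj (R : Type*) [CommRing R] (w : W P) : Matrix (G ⧸ P.B) (G ⧸ P.B) R :=
  Matrix.of fun x y => if wdist P x y = w then 1 else 0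

variable {R : Type*} [CommRing R]

open Classical in
omit [Fintype (G ⧸ P.B)] in
theorem adj_apply (w : W P) (x y : G ⧸ P.B) :
    adj P R w x y = if wdist P x y = w then 1 else 0 := rfl

omit [Fintype (G ⧸ P.B)] in
theorem adj_one [DecidableEq (G ⧸ P.B)] : adj P R 1 = 1 := by
  ext x y
  simp [adj_apply, wdist_eq_one_iff, Matrix.one_apply]

open Classical in
theorem adj_mul_apply (w w' : W P) (x z : G ⧸ P.B) :
    (adj P R w * adj P R w') x z =
      ((Finset.univ.filter fun y => wdist P x y = w ∧ wdist P y z = w').card : R) := by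
  rw [Matrix.mul_apply, Finset.card_filter]
  push_cast
  refine Finset.sum_congr rfl fun y _ => ?_
  rw [adj_apply, adj_apply]
  by_cases h1 : wdist P x y = w <;> by_cases h2 : wdist P y z = w' <;> simp [h1, h2]

theorem adj_s_mul_of_le {i : P.S} {w : W P}
    (hw : (gens P).len w ≤ (gens P).len ((gens P).s i * w)) :
    adj P R ((gens P).s i) * adj P R w = adj P R ((gens P).s i * w) := by
  classical
  ext x z
  rw [adj_mul_apply, adj_apply]
  split_ifs with h
  · obtain ⟨y, hy, hz⟩ := exists_wdist_between h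
    rw [Finset.card_eq_one.2 ⟨y, ?_⟩, Nat.cast_one]
    ext y'
    simp only [Finset.mem_filter, Finset.mem_univ, true_and, Finset.mem_singleton]
    constructor
    · rintro ⟨h1, h2⟩
      exact eq_of_wdist_s_between hw h1 hy h2 hz
    · rintro rfl
      exact ⟨hy, hz⟩
  · rw [Finset.filter_eq_empty_iff.2, Finset.card_empty, Nat.cast_zero]
    rintro y - ⟨h1, h2⟩
    apply h
    rw [wdist_s_trans_of_le h1 (by rw [h2]; exact hw), h2]

theorem adj_s_mul_s [DecidableEq (G ⧸ P.B)] (i : P.S) :
    adj P R ((gens P).s i) * adj P R ((gens P).s i) =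
      (ind P ((gens P).s i) : R) • (1 : Matrix _ _ R) +
        ((ind P ((gens P).s i) : R) - 1) • adj P R ((gens P).s i) := by
  classical
  ext x z
  rw [adj_mul_apply, Matrix.add_apply, Matrix.smul_apply, Matrix.smul_apply, adj_apply,
    Matrix.one_apply]
  by_cases hxz : x = z
  · subst hxz
    rw [wdist_self, if_pos rfl, if_neg (gens_s_ne_one i).symm, ← card_filter_wdist x]
    simp only [smul_eq_mul, mul_one, mul_zero, add_zero]
    congr 2
    ext y
    simp only [Finset.mem_filter, Finset.mem_univ, true_and, and_iff_left_iff_imp]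
    intro h
    rw [wdist_symm, h, InvGen.inv_s]
  · rw [if_neg hxz]
    split_ifs with h
    · have e : (Finset.univ.filter fun y => wdist P x y = (gens P).s i ∧
          wdist P y z = (gens P).s i) =
          (Finset.univ.filter fun y => wdist P x y = (gens P).s i).erase z := by
        ext y
        simp only [Finset.mem_filter, Finset.mem_univ, true_and, Finset.mem_erase]
        constructor
        · rintro ⟨h1, h2⟩
          refine ⟨?_, h1⟩
          rintro rfl
          rw [wdist_self] at h2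
          exact gens_s_ne_one i h2.symm
        · rintro ⟨h1, h2⟩
          exact ⟨h2, wdist_eq_s_of_ne h2 h h1⟩
      rw [e, Finset.card_erase_of_mem (by simpa using h), card_filter_wdist,
        Nat.cast_sub (ind_pos _)]
      simp
    · rw [Finset.filter_eq_empty_iff.2, Finset.card_empty, Nat.cast_zero]
      · simp
      rintro y - ⟨h1, h2⟩
      rcases wdist_s_trans h1 z with h3 | h3
      · rw [h2, (gens P).s_mul_s, wdist_eq_one_iff] at h3
        exact hxz h3
      · exact h (h3.trans h2)

theorem sum_adj_row (w : W P) (x : G ⧸ P.B) : ∑ y, adj P R w x y = (ind P w : R) := by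
  classical
  rw [← card_filter_wdist x, Finset.card_filter]
  push_cast
  rfl

theorem ind_s_mul_of_le {i : P.S} {w : W P}
    (hw : (gens P).len w ≤ (gens P).len ((gens P).s i * w)) :
    ind P ((gens P).s i * w) = ind P ((gens P).s i) * ind P w := by
  have h := sum_adj_row (R := ℤ) ((gens P).s i * w) ((1 : G) : G ⧸ P.B)
  rw [← adj_s_mul_of_le hw] at h
  simp only [Matrix.mul_apply] at h
  rw [Finset.sum_comm] at h
  simp only [← Finset.mul_sum, sum_adj_row] at h
  rw [← Finset.sum_mul, sum_adj_row] at h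
  exact_mod_cast h.symm

/-- The valency is multiplicative along a reduced word. -/
theorem ind_wp {l : List P.S} (hl : (gens P).IsRed l) :
    ind P ((gens P).wp l) = (l.map fun i => ind P ((gens P).s i)).prod := by
  induction l with
  | nil => simp [ind_one]
  | cons i l ih =>
    rw [InvGen.wp_cons, ind_s_mul_of_le (by rw [hl.len_cons]; omega), ih hl.tail]
    simp

theorem ind_inv (w : W P) : ind P w⁻¹ = ind P w := by
  obtain ⟨l, hl, rfl⟩ := (gens P).exists_isRed w
  rw [← InvGen.wp_reverse, ind_wp hl.reverse, ind_wp hl, List.map_reverse, List.prod_reverse]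

open Classical in
theorem trace_adj_mul (w v : W P) :
    (adj P R w * adj P R v).trace =
      if w * v = 1 then (Fintype.card (G ⧸ P.B) : R) * ind P w else 0 := by
  unfold Matrix.trace
  simp only [Matrix.diag_apply, adj_mul_apply]
  split_ifs with h
  · have : ∀ x : G ⧸ P.B, (Finset.univ.filter fun y => wdist P x y = w ∧ wdist P y x = v).card =
        ind P w := by
      intro x
      rw [← card_filter_wdist x]
      congr 1
      ext y
      simp only [Finset.mem_filter, Finset.mem_univ, true_and, and_iff_left_iff_imp]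
      intro h'
      rw [wdist_symm, h']
      exact inv_eq_of_mul_eq_one_right h
    simp [this]
  · refine Finset.sum_eq_zero fun x _ => ?_
    rw [Finset.filter_eq_empty_iff.2, Finset.card_empty, Nat.cast_zero]
    rintro y - ⟨h1, h2⟩
    apply h
    rw [← h1, ← h2, wdist_symm x y, mul_inv_cancel]

omit [Fintype (G ⧸ P.B)] in
theorem finite_W [Finite (G ⧸ P.B)] : Finite (W P) :=
  Finite.of_surjective (wdist P ((1 : G) : G ⧸ P.B)) (exists_wdist_eq _)

/-- The index of `B` is the sum of the valencies. -/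
theorem card_quotient_eq_sum [Fintype (W P)] :
    Fintype.card (G ⧸ P.B) = ∑ w : W P, ind P w := by
  classical
  rw [← Finset.card_univ,
    Finset.card_eq_sum_card_fiberwise (f := wdist P ((1 : G) : G ⧸ P.B)) (t := Finset.univ)
      (fun _ _ => Finset.mem_univ _)]
  exact Finset.sum_congr rfl fun w _ => card_filter_wdist _ w

end Finite

end Cfsg.Agent.H35.BN
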