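import Cfsg.Agent.H35.HeckeRat

/-!
# The rationality conditions of Feit and Higman (Kilmoyer–Solomon form)
-/

set_option autoImplicit false

namespace Cfsg.Agent.H35

namespace FH

abbrev M2 := Matrix (Fin 2) (Fin 2) ℂ

theorem pow_formula {M : M2} {ζ ξ : ℂ} (h : ζ * ξ = 1) (hM : M * M = (ζ + ξ) • M - 1) (k : ℕ) :
    (ζ - ξ) • M ^ k = (ζ ^ k - ξ ^ k) • M - (ζ ^ k * ξ - ξ ^ k * ζ) • (1 : M2) := by
  induction k with
  | zero => simp only [pow_zero, sub_self, zero_smul, one_mul, zero_sub, ← neg_smul, neg_sub]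
  | succ k ih =>
    rw [pow_succ, ← smul_mul_assoc, ih, sub_mul, smul_mul_assoc, hM, smul_mul_assoc, one_mul,
      smul_sub, smul_smul]
    have e1 : ζ ^ (k + 1) * ξ - ξ ^ (k + 1) * ζ = ζ ^ k - ξ ^ k := by
      linear_combination (ζ ^ k - ξ ^ k) * h
    rw [e1]
    have e2 : ζ ^ (k + 1) - ξ ^ (k + 1) = (ζ ^ k - ξ ^ k) * (ζ + ξ) - (ζ ^ k * ξ - ξ ^ k * ζ) := by
      ring
    rw [e2, sub_smul ((ζ ^ k - ξ ^ k) * (ζ + ξ))]
    abel

/-- The data of a two-dimensional representation of a rank-two Hecke algebra. -/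
structure Rep (S T : M2) (α β ζ ξ : ℂ) : Prop where
  inv : ζ * ξ = 1
  ne : ζ - ξ ≠ 0
  sS : S * S = 1 + α • S
  sT : T * T = 1 + β • T
  trS : S.trace = α
  trT : T.trace = β
  trST : (S * T).trace = ζ + ξ
  sST : S * T * (S * T) = (ζ + ξ) • (S * T) - 1
  sTS : T * S * (T * S) = (ζ + ξ) • (T * S) - 1

variable {S T : M2} {α β ζ ξ : ℂ}

theorem Rep.symm (h : Rep S T α β ζ ξ) : Rep T S β α ζ ξ :=
  ⟨h.inv, h.ne, h.sT, h.sS, h.trT, h.trS, by rw [Matrix.trace_mul_comm, h.trST], h.sTS, h.sST⟩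

theorem Rep.trace_even (h : Rep S T α β ζ ξ) (k : ℕ) : ((S * T) ^ k).trace = ζ ^ k + ξ ^ k := by
  have := congrArg Matrix.trace (pow_formula h.inv h.sST k)
  simp only [Matrix.trace_smul, Matrix.trace_sub, h.trST, Matrix.trace_one, smul_eq_mul,
    Fintype.card_fin, Nat.cast_ofNat] at this
  apply mul_left_cancel₀ h.ne
  rw [this]; ring

theorem Rep.trace_odd (h : Rep S T α β ζ ξ) (k : ℕ) :
    (ζ - ξ) * ((S * T) ^ k * S).trace =
      β * (ζ ^ k - ξ ^ k) + α * (ζ ^ (k + 1) - ξ ^ (k + 1)) := by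
  have h1 := congrArg (fun M => Matrix.trace (M * S)) (pow_formula h.inv h.sST k)
  have h2 : (S * T * S).trace = β + α * (ζ + ξ) := by
    rw [Matrix.trace_mul_comm, ← mul_assoc, h.sS, add_mul, one_mul, smul_mul_assoc,
      Matrix.trace_add, Matrix.trace_smul, h.trT, h.trST, smul_eq_mul]
  simp only [sub_mul, smul_mul_assoc, Matrix.trace_smul, Matrix.trace_sub, h2, one_mul, h.trS,
    smul_eq_mul] at h1
  linear_combination h1

theorem Rep.braid_even (h : Rep S T α β ζ ξ) {k : ℕ} (hk : ζ ^ (2 * k) = 1) :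
    (S * T) ^ k = (T * S) ^ k := by
  have e : ζ ^ k - ξ ^ k = 0 := by
    have h1 : ζ ^ k * ξ ^ k = 1 := by rw [← mul_pow, h.inv, one_pow]
    have h2 : ζ ^ k * ζ ^ k = 1 := by rw [← pow_add, ← two_mul, hk]
    linear_combination ξ ^ k * h2 - ζ ^ k * h1
  have h1 := pow_formula h.inv h.sST k
  have h2 := pow_formula h.inv h.sTS k
  rw [e, zero_smul] at h1 h2
  exact smul_right_injective _ h.ne (h1.trans h2.symm)

theorem Rep.sts (h : Rep S T α β ζ ξ) : S * T * S = (ζ + ξ) • S - T + β • (1 : M2) := by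
  have h1 : T * (T - β • (1 : M2)) = 1 := by
    rw [mul_sub, h.sT, mul_smul_comm, mul_one]; abel
  calc S * T * S = S * T * (S * T) * (T - β • (1 : M2)) := by
        rw [mul_assoc (S * T) (S * T), mul_assoc S T (T - _), h1, mul_one]
    _ = _ := by
        rw [h.sST, sub_mul, smul_mul_assoc, mul_assoc, h1, mul_one, one_mul]; abel

theorem Rep.braid_odd (h : Rep S T α α ζ ξ) {k : ℕ} (hk : ζ ^ (2 * k + 1) = 1) :
    (S * T) ^ k * S = (T * S) ^ k * T := by
  have h1 := congrArg (fun M => M * S) (pow_formula h.inv h.sST k)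
  have h2 := congrArg (fun M => M * T) (pow_formula h.inv h.sTS k)
  simp only [sub_mul, smul_mul_assoc, one_mul] at h1 h2
  rw [h.sts] at h1
  rw [h.symm.sts] at h2
  apply smul_right_injective _ h.ne
  simp only
  rw [h1, h2]
  have e : (ζ ^ k - ξ ^ k) * (ζ + ξ + 1) = ζ ^ k * ξ - ξ ^ k * ζ := by
    have h3 : ζ ^ k * ξ ^ k = 1 := by rw [← mul_pow, h.inv, one_pow]
    have h4 : ζ ^ k * ζ ^ k * ζ = 1 := by rw [← pow_add, ← two_mul, ← pow_succ, hk]
    have h5 : ξ ^ k = ζ ^ k * ζ := by linear_combination (-ξ ^ k) * h4 + ζ ^ k * ζ * h3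
    rw [h5]
    linear_combination (-ζ ^ k) * h.inv
  rw [← e]
  module

theorem rep_exists {u v : ℂ} (hu : u ≠ 0) (hv : v ≠ 0) (h : ζ * ξ = 1) (hne : ζ - ξ ≠ 0) :
    Rep !![-u⁻¹, 1; 0, u] !![v, 0; ζ + ξ + u / v + v / u, -v⁻¹] (u - u⁻¹) (v - v⁻¹) ζ ξ := by
  refine ⟨h, hne, ?_, ?_, ?_, ?_, ?_, ?_, ?_⟩
  · ext a b; fin_cases a <;> fin_cases b <;> simp <;> field_simp <;> ring
  · ext a b; fin_cases a <;> fin_cases b <;> simp <;> field_simp <;> ring
  · simp [Matrix.trace_fin_two]; ring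
  · simp [Matrix.trace_fin_two]; ring
  · simp [Matrix.trace_fin_two]; field_simp; ring
  · ext a b; fin_cases a <;> fin_cases b <;> simp <;> field_simp <;> ring
  · ext a b; fin_cases a <;> fin_cases b <;> simp <;> field_simp <;> ring

theorem scalar_of_commute {a b c d y : ℂ} (hy : y ≠ 0) (Z : M2)
    (h1 : Z * !![a, 1; 0, b] = !![a, 1; 0, b] * Z)
    (h2 : Z * !![c, 0; y, d] = !![c, 0; y, d] * Z) : ∃ e : ℂ, Z = e • (1 : M2) := by
  have e1 := congrFun (congrFun h1 0) 0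
  have e2 := congrFun (congrFun h1 0) 1
  have e3 := congrFun (congrFun h2 0) 0
  simp [Matrix.mul_apply, Fin.sum_univ_two] at e1 e2 e3
  have f1 : Z 1 0 = 0 := by linear_combination -e1
  have f2 : Z 0 1 = 0 := by
    apply mul_right_cancel₀ hy
    linear_combination e3
  have f3 : Z 1 1 = Z 0 0 := by rw [f2] at e2; linear_combination -e2
  refine ⟨Z 0 0, ?_⟩
  ext a b; fin_cases a <;> fin_cases b <;> simp [f1, f2, f3]

theorem geom_zero {x : ℂ} {m : ℕ} (hx : x ≠ 1) (hm : x ^ m = 1) :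
    ∑ k ∈ Finset.range m, x ^ k = 0 := by
  have := mul_neg_geom_sum x m
  rw [hm, sub_self] at this
  exact (mul_eq_zero.1 this).resolve_left (sub_ne_zero.2 hx.symm)

open InvGen in
/-- The rationality condition. -/
theorem dihedral_rat {B W : Type*} [Group W] [Fintype W] [DecidableEq W] {X : InvGen B W}
    (hX : X.Exchange) {i j : B} (hij : i ≠ j) (hB : ∀ k, k = i ∨ k = j)
    {Ω : Type*} [Fintype Ω] [DecidableEq Ω] [Nonempty Ω] {A : W → Matrix Ω Ω ℂ} {α : B → ℂ}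
    (hA : X.IsHeckeFam α A)
    (htr : ∀ w v, (A w * A v).trace = if w * v = 1 then (Fintype.card Ω : ℂ) else 0)
    {u v : ℝ} (hu : 0 < u) (hv : 0 < v) (hαi : α i = u - (u : ℂ)⁻¹) (hαj : α j = v - (v : ℂ)⁻¹)
    (hodd : Odd (orderOf (X.s i * X.s j)) → u = v)
    {ζ : ℂ} (hζ : ζ ^ orderOf (X.s i * X.s j) = 1) (hζ2 : ζ ^ 2 ≠ 1) :
    ∃ q : ℚ, α i ^ 2 + α j ^ 2 + α i * α j * (ζ + ζ⁻¹) = q * (4 - (ζ + ζ⁻¹) ^ 2) := by
  classical
  set m := orderOf (X.s i * X.s j) with hm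
  have hm0 : 0 < m := orderOf_pos _
  have hζ0 : ζ ≠ 0 := by
    rintro rfl
    rw [zero_pow hm0.ne'] at hζ
    exact zero_ne_one hζ
  set ξ := ζ⁻¹ with hξ
  have hinv : ζ * ξ = 1 := mul_inv_cancel₀ hζ0
  have hξm : ξ ^ m = 1 := by rw [hξ, inv_pow, hζ, inv_one]
  have hne : ζ - ξ ≠ 0 := by
    intro h
    apply hζ2
    linear_combination ζ * h + hinv
  have hξ2 : ξ ^ 2 ≠ 1 := by
    intro h
    apply hne
    linear_combination (-ζ) * h + ξ * hinv
  have hu0 : (u : ℂ) ≠ 0 := by exact_mod_cast hu.ne'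
  have hv0 : (v : ℂ) ≠ 0 := by exact_mod_cast hv.ne'
  have hreal : ∀ r : ℝ, ζ ≠ r := by
    rintro r rfl
    apply hζ2
    have h1 : r ^ m = 1 := by exact_mod_cast hζ
    have h2 : |r| = 1 := by
      have : |r| ^ m = 1 := by rw [← abs_pow, h1, abs_one]
      exact (pow_eq_one_iff_of_nonneg (abs_nonneg r) hm0.ne').1 this
    have h3 : r ^ 2 = 1 := by rw [← sq_abs, h2, one_pow]
    exact_mod_cast h3
  have hy : ζ + ξ + u / v + v / u ≠ 0 := by
    intro h
    have h1 : (ζ + u / v) * (ζ + v / u) = 0 := by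
      have : (u : ℂ) / v * (v / u) = 1 := by field_simp
      linear_combination ζ * h - hinv + this
    rcases mul_eq_zero.1 h1 with h2 | h2
    · exact hreal (-(u / v)) (by push_cast; linear_combination h2)
    · exact hreal (-(v / u)) (by push_cast; linear_combination h2)
  have hR := rep_exists hu0 hv0 hinv hne
  set S : M2 := !![-(u : ℂ)⁻¹, 1; 0, u] with hS
  set T : M2 := !![(v : ℂ), 0; ζ + ξ + u / v + v / u, -(v : ℂ)⁻¹] with hT
  rw [← hαi, ← hαj] at hR
  let f : B → M2 := fun k => if k = i then S else T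
  have hfi : f i = S := if_pos rfl
  have hfj : f j = T := if_neg hij.symm
  have hbraid : ((altw i j m).map f).prod = ((altw j i m).map f).prod := by
    rcases Nat.even_or_odd' m with ⟨k, hk | hk⟩
    · rw [hk, prod_altw_two_mul, prod_altw_two_mul, hfi, hfj]
      exact hR.braid_even (hk ▸ hζ)
    · rw [hk, prod_altw_two_mul_add_one, prod_altw_two_mul_add_one, hfi, hfj]
      have : α j = α i := by rw [hαi, hαj, hodd ⟨k, hk⟩]
      rw [this] at hR
      exact hR.braid_odd (hk ▸ hζ)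
  obtain ⟨ρ, hρ, hρl⟩ := hX.exists_heckeFam (α := α) f (by
    intro k l _
    rcases hB k with rfl | rfl <;> rcases hB l with rfl | rfl
    · rfl
    · exact hbraid
    · rw [orderOf_s_mul_s_comm]; exact hbraid.symm
    · rfl) (by
    intro k
    rcases hB k with rfl | rfl
    · rw [hfi]; exact hR.sS
    · rw [hfj]; exact hR.sT)
  have hρs : ∀ k, ρ (X.s k) = f k := fun k => by
    have := hρl [k] (by unfold IsRed; simpa using hX.len_s k)
    simpa using this
  obtain ⟨q, hq⟩ := hA.exists_rat hX hρ htr (fun Z hZ => by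
    have h1 := hZ i
    have h2 := hZ j
    rw [hρs, hfi] at h1
    rw [hρs, hfj] at h2
    exact scalar_of_commute hy Z h1 h2)
  set r := X.s i * X.s j with hr
  have hrm : r ^ m = 1 := pow_orderOf_eq_one r
  have hpow : ∀ k ≤ m, (r ^ k)⁻¹ = r ^ (m - k) := fun k hk => by
    rw [inv_eq_iff_mul_eq_one, ← pow_add, Nat.add_sub_cancel' hk, hrm]
  have hζk : ∀ k ≤ m, ζ ^ (m - k) = ξ ^ k := fun k hk => by
    have h1 : ζ ^ (m - k) * ζ ^ k = 1 := by rw [← pow_add, Nat.sub_add_cancel hk, hζ]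
    have h2 : ζ ^ k * ξ ^ k = 1 := by rw [← mul_pow, hinv, one_pow]
    linear_combination ξ ^ k * h1 - ζ ^ (m - k) * h2
  have hξk : ∀ k ≤ m, ξ ^ (m - k) = ζ ^ k := fun k hk => by
    have := hζk (m - k) (Nat.sub_le m k)
    rw [Nat.sub_sub_self hk] at this
    exact this.symm
  have heven : ∀ k ≤ m, (ρ (r ^ k)).trace = ζ ^ k + ξ ^ k := by
    intro k hk
    by_cases h2 : 2 * k ≤ m
    · have := hρl _ (hX.isRed_altw hB h2)
      rw [wp_altw_even, prod_altw_two_mul, hfi, hfj] at this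
      rw [this, hR.trace_even]
    · have := hρl _ (hX.isRed_altw' hB (n := 2 * (m - k)) (by omega))
      rw [wp_altw_even', prod_altw_two_mul, hfi, hfj, ← hr, hpow _ (Nat.sub_le m k),
        Nat.sub_sub_self hk] at this
      rw [this, hR.symm.trace_even, hζk k hk, hξk k hk, add_comm]
  have hodd' : ∀ k < m, ((ζ - ξ) * (ρ (r ^ k * X.s i)).trace) ^ 2 =
      (α j * (ζ ^ k - ξ ^ k) + α i * (ζ ^ (k + 1) - ξ ^ (k + 1))) ^ 2 := by
    intro k hk
    by_cases h2 : 2 * k + 1 ≤ m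
    · have := hρl _ (hX.isRed_altw hB h2)
      rw [wp_altw_odd, prod_altw_two_mul_add_one, hfi, hfj] at this
      rw [this, hR.trace_odd]
    · have := hρl _ (hX.isRed_altw' hB (n := 2 * (m - (k + 1)) + 1) (by omega))
      rw [wp_altw_odd', prod_altw_two_mul_add_one, hfi, hfj, ← hr,
        show m - (k + 1) + 1 = m - k by omega, hpow _ (Nat.sub_le m k),
        Nat.sub_sub_self hk.le] at this
      rw [this, hR.symm.trace_odd, show m - (k + 1) + 1 = m - k by omega, hζk k hk.le,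
        hξk k hk.le, hζk (k + 1) hk, hξk (k + 1) hk]
      ring
  rw [hX.sum_eq_rank_two hB, ← hr, ← hm] at hq
  have g1 := geom_zero hζ2 (show (ζ ^ 2) ^ m = 1 by rw [← pow_mul, mul_comm, pow_mul, hζ, one_pow])
  have g2 := geom_zero hξ2 (show (ξ ^ 2) ^ m = 1 by rw [← pow_mul, mul_comm, pow_mul, hξm, one_pow])
  have hkk : ∀ k : ℕ, ζ ^ k * ξ ^ k = 1 := fun k => by rw [← mul_pow, hinv, one_pow]
  have s1 : ∑ k ∈ Finset.range m, (ρ (r ^ k)⁻¹).trace * (ρ (r ^ k)).trace = 2 * m := by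
    have : ∀ k ∈ Finset.range m, (ρ (r ^ k)⁻¹).trace * (ρ (r ^ k)).trace =
        (ζ ^ 2) ^ k + (ξ ^ 2) ^ k + 2 := by
      intro k hk
      have hk' := (Finset.mem_range.1 hk).le
      rw [hpow k hk', heven k hk', heven _ (Nat.sub_le m k), hζk k hk', hξk k hk']
      linear_combination 2 * hkk k
    rw [Finset.sum_congr rfl this, Finset.sum_add_distrib, Finset.sum_add_distrib, g1, g2]
    simp [mul_comm]
  have s2 : (ζ - ξ) ^ 2 * ∑ k ∈ Finset.range m,
      (ρ (r ^ k * X.s i)⁻¹).trace * (ρ (r ^ k * X.s i)).trace =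
      -(2 * m * ((α j + α i * ζ) * (α j + α i * ξ))) := by
    rw [Finset.mul_sum]
    have : ∀ k ∈ Finset.range m, (ζ - ξ) ^ 2 *
        ((ρ (r ^ k * X.s i)⁻¹).trace * (ρ (r ^ k * X.s i)).trace) =
        (α j + α i * ζ) ^ 2 * (ζ ^ 2) ^ k + (α j + α i * ξ) ^ 2 * (ξ ^ 2) ^ k +
          -(2 * ((α j + α i * ζ) * (α j + α i * ξ))) := by
      intro k hk
      have e : (r ^ k * X.s i)⁻¹ = r ^ k * X.s i := by
        rw [hr, ← wp_altw_odd, ← wp_reverse, wp_altw_odd, wp_reverse, wp_altw_odd, mul_inv_rev,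
          inv_s, ← inv_pow, mul_inv_rev, inv_s, inv_s]
        clear hk
        induction k with
        | zero => simp
        | succ k ih => rw [pow_succ, ← mul_assoc, ih, pow_succ]; simp [mul_assoc]
      rw [e]
      linear_combination hodd' k (Finset.mem_range.1 hk) -
        2 * ((α j + α i * ζ) * (α j + α i * ξ)) * hkk k
    rw [Finset.sum_congr rfl this, Finset.sum_add_distrib, Finset.sum_add_distrib,
      ← Finset.mul_sum, ← Finset.mul_sum, g1, g2]
    simp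
    ring
  rw [s1] at hq
  have hmC : (m : ℂ) ≠ 0 := by exact_mod_cast hm0.ne'
  refine ⟨q / (2 * m) - 1, ?_⟩
  push_cast
  rw [← hq]
  field_simp
  linear_combination s2 + (4 * (∑ k ∈ Finset.range m,
      (ρ (r ^ k * X.s i)⁻¹).trace * (ρ (r ^ k * X.s i)).trace) - 2 * m * α i ^ 2) * hinv

end FH

end Cfsg.Agent.H35
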