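import Cfsg.Agent.H63.WrDefs

/-!
# Standard subgroups of type `L₃(q)`, `q ≥ 4` even

Definitions, interface propositions and the assembly; the paper proofs are in
`stubs/notes/h35_l3.md`.
-/

set_option autoImplicit false
set_option linter.style.haveILetI false

namespace Cfsg.Agent.H35.L3

open Cfsg Cfsg.Agent.H63 Cfsg.Agent.H63.SL Cfsg.Agent.H63.WR Subgroup
open Cfsg.Agent.H8 (IsSylowIn)
open scoped commutatorElement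

universe u v

section Ring

variable {A : Type v} [CommRing A] {G : Type u} [Group G]

/-- The Steinberg relations of type `A₂` in characteristic two. -/
structure St3 (x : Fin 3 → Fin 3 → A → G) : Prop where
  two : (2 : A) = 0
  add : ∀ i j, i ≠ j → ∀ a b, x i j (a + b) = x i j a * x i j b
  rel : ∀ i j k, i ≠ j → j ≠ k → i ≠ k → ∀ a b, ⁅x i j a, x j k b⁆ = x i k (a * b)
  row : ∀ i j k, i ≠ j → i ≠ k → ∀ a b, Commute (x i j a) (x i k b)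
  col : ∀ i j k, i ≠ k → j ≠ k → ∀ a b, Commute (x i k a) (x j k b)
  inj : ∀ i j, i ≠ j → ∀ a, x i j a = 1 → a = 0

variable (x : Fin 3 → Fin 3 → A → G)

def X3 (i j : Fin 3) : Subgroup G := closure (Set.range (x i j))

def Row (i : Fin 3) : Subgroup G := closure {g | ∃ j, i ≠ j ∧ ∃ a, g = x i j a}

def Col (k : Fin 3) : Subgroup G := closure {g | ∃ i, i ≠ k ∧ ∃ a, g = x i k a}

/-- The unitriangular group with centre `X3 x i k`. -/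
def Y3 (i k : Fin 3) : Subgroup G := Row x i ⊔ Col x k

def U3 : Subgroup G := Y3 x 0 2

def All : Subgroup G := closure {g | ∃ i j, i ≠ j ∧ ∃ a, g = x i j a}

def n3 (i j : Fin 3) : G := x i j 1 * x j i 1 * x i j 1

/-- `g` acts as the diagonal matrix `d`. -/
def Tor (g : G) (d : Fin 3 → Aˣ) : Prop :=
  ∀ i j, i ≠ j → ∀ a, g * x i j a * g⁻¹ = x i j (d i * ↑(d j)⁻¹ * a)

/-- The pinning twisted by the graph symmetry. -/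
def fl (ε : Bool) : Fin 3 → Fin 3 → A → G := fun i j => if ε then x j.rev i.rev else x i j

/-- `g` permutes the six root subgroups and fixes the positive ones as a set. -/
def Fr3 (g : G) (ε : Bool) (φ : A ≃+* A) : Prop :=
  ∃ d : Fin 3 → Aˣ, ∀ i j, i ≠ j → ∀ a, g * x i j a * g⁻¹ = fl x ε i j (d i * ↑(d j)⁻¹ * φ a)

/-- The action of `g` on `U / Z` and on `Z`. -/
def Act (g : G) (ε : Bool) (φ : A ≃+* A) : Prop :=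
  ∃ c1 c2 : Aˣ, (∀ a, ∃ e, g * x 0 1 a * g⁻¹ = fl x ε 0 1 (c1 * φ a) * x 0 2 e) ∧
    (∀ a, ∃ e, g * x 1 2 a * g⁻¹ = fl x ε 1 2 (c2 * φ a) * x 0 2 e) ∧
    ∀ a, g * x 0 2 a * g⁻¹ = x 0 2 (c1 * c2 * φ a)

def Typ3 (L : Subgroup G) (g : G) (ε : Bool) (φ : A ≃+* A) : Prop := ∃ l ∈ L, Fr3 x (l * g) ε φ

/-- Consequences of the Steinberg relations. -/
structure Pin3 : Prop where
  nn : ∀ i j, i ≠ j → ∀ k l, k ≠ l → ∀ a,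
    n3 x i j * x k l a * (n3 x i j)⁻¹ = x (Equiv.swap i j k) (Equiv.swap i j l) a
  wey : ∀ π : Equiv.Perm (Fin 3), ∃ n ∈ All x, ∀ i j, i ≠ j → ∀ a,
    n * x i j a * n⁻¹ = x (π i) (π j) a
  tor : ∀ d : Fin 3 → Aˣ, d 0 * d 1 * d 2 = 1 → ∃ h ∈ All x, Tor x h d
  memX : ∀ i j, i ≠ j → ∀ g, g ∈ X3 x i j ↔ ∃ a, g = x i j a
  memR : ∀ i j k, i ≠ j → j ≠ k → i ≠ k → ∀ g, g ∈ Row x i ↔ ∃ a b, g = x i j a * x i k b
  memC : ∀ i j k, i ≠ j → j ≠ k → i ≠ k → ∀ g, g ∈ Col x k ↔ ∃ a b, g = x j k a * x i k b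
  memY : ∀ i j k, i ≠ j → j ≠ k → i ≠ k → ∀ g,
    g ∈ Y3 x i k ↔ ∃ a b c, g = x i j a * x j k b * x i k c
  uniq : ∀ i j k, i ≠ j → j ≠ k → i ≠ k → ∀ a b c a' b' c',
    x i j a * x j k b * x i k c = x i j a' * x j k b' * x i k c' → a = a' ∧ b = b' ∧ c = c'
  mul : ∀ i j k, i ≠ j → j ≠ k → i ≠ k → ∀ a b c a' b' c',
    x i j a * x j k b * x i k c * (x i j a' * x j k b' * x i k c') =
      x i j (a + a') * x j k (b + b') * x i k (c + c' + a' * b)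
  cardX : ∀ i j, i ≠ j → Nat.card (X3 x i j) = Nat.card A
  cardR : ∀ i, Nat.card (Row x i) = Nat.card A ^ 2
  cardC : ∀ k, Nat.card (Col x k) = Nat.card A ^ 2
  cardY : ∀ i k, i ≠ k → Nat.card (Y3 x i k) = Nat.card A ^ 3
  two : ∀ i k, i ≠ k → IsPGroup 2 (Y3 x i k)
  perf : ⁅All x, All x⁆ = All x

end Ring

section Field

variable {F : Type v} [Field F] {G : Type u} [Group G]

/-- The model: `L` is a covering group of `L₃(q)` with centre of odd order. -/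
structure M3 (L : Subgroup G) (x : Fin 3 → Fin 3 → F → G) : Prop where
  st : St3 x
  four : 4 ≤ Nat.card F
  gen : All x = L
  qs : IsQuasisimple L
  zodd : ∀ z ∈ Z[L], Odd (orderOf z)
  syl : IsSylowIn 2 (U3 x) L
  ti : ∀ l ∈ L, ∀ c c', c ≠ 0 → l * x 0 2 c * l⁻¹ = x 0 2 c' → l ∈ N[U3 x]
  bor : ∀ l ∈ L, l ∈ N[U3 x] → ∃ u ∈ U3 x, Fr3 x (u * l) false 1
  nU : ∀ g ∈ N[L], g ∈ N[U3 x] → ∃ u ∈ U3 x, ∃ ε φ, Fr3 x (u * g) ε φ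

/-- Consequences of the model: the structure of `N(L)`. -/
structure KA (L : Subgroup G) (x : Fin 3 → Fin 3 → F → G) : Prop where
  flip : M3 L (fl x true)
  conj : ∀ g, M3 (cj g L) fun i j a => g * x i j a * g⁻¹
  perm : ∀ π : Equiv.Perm (Fin 3), M3 L fun i j => x (π i) (π j)
  UK : U3 x ⊓ C[L] = ⊥
  cls : ∀ j ∈ L, j * j = 1 → j ≠ 1 → ∀ c, c ≠ 0 → ∃ l ∈ L, l * j * l⁻¹ = x 0 2 c
  ti : ∀ g ∈ N[L], ∀ c c', c ≠ 0 → g * x 0 2 c * g⁻¹ = x 0 2 c' → g ∈ N[U3 x]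
  c2 : ∀ g ∈ N[L], (∀ u ∈ U3 x, ⁅g, u⁆ ∈ X3 x 0 2) → ∃ u ∈ U3 x, ∃ k ∈ C[L], g = u * k
  c1 : ∀ i, ∀ g ∈ N[L], g ∈ C[Row x i] → ∃ v ∈ Row x i, ∃ k ∈ C[L], g = v * k
  c1' : ∀ i, ∀ g ∈ N[L], g ∈ C[Col x i] → ∃ v ∈ Col x i, ∃ k ∈ C[L], g = v * k
  cY : ∀ i j, i ≠ j → ∀ g ∈ N[L], g ∈ C[Y3 x i j] → ∃ c, ∃ k ∈ C[L], g = x i j c * k
  two : ∀ P : Subgroup G, P ≤ N[L] → IsPGroup 2 P → ∃ l ∈ L, cj l P ≤ N[U3 x]
  typ_ex : ∀ g ∈ N[L], ∃ ε φ, Typ3 x L g ε φ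
  typ_N : ∀ g ε φ, Typ3 x L g ε φ → g ∈ N[L]
  typ_uniq : ∀ g ε φ ε' φ', Typ3 x L g ε φ → Typ3 x L g ε' φ' → ε = ε' ∧ φ = φ'
  typ_mul : ∀ g ε φ g' ε' φ', Typ3 x L g ε φ → Typ3 x L g' ε' φ' →
    Typ3 x L (g * g') (xor ε ε') (φ * φ')
  typ_inn : ∀ g ∈ L ⊔ C[L], Typ3 x L g false 1
  typ_one : ∀ g, Typ3 x L g false 1 → Is2 g → g ∈ L ⊔ C[L]
  inn : ∀ g ∈ L ⊔ C[L], g ∈ N[U3 x] → Is2 g → ∃ u ∈ U3 x, ∃ k ∈ C[L], g = u * k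
  ab : ∀ g ∈ ⁅N[L], N[L]⁆, Typ3 x L g false 1
  memU : ∀ l ∈ L, l ∈ N[U3 x] → Is2 l → l ∈ U3 x
  tn : ∀ t, Tc L t → t ∉ L
  /-- an involution of `L C(L)` commuting with `t` -/
  dec : ∀ t, Tc L t → ∀ g ∈ L ⊔ C[L], g * g = 1 → Commute g t →
    ∃ l ∈ L, l * l = 1 ∧ (g = l ∨ g = t * l)

/-- Consequences of the model: outer involutions and elementary abelian subgroups. -/
structure KB (L : Subgroup G) (x : Fin 3 → Fin 3 → F → G) : Prop where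
  j3 : ∀ f ε φ, Fr3 x f ε φ → (ε = true ∨ φ ≠ 1) → f * f ∈ C[L] → ∀ u ∈ U3 x,
    f * u * f⁻¹ = u⁻¹ → ∃ w ∈ U3 x, u * f = w * f * w⁻¹
  lift : ∀ r ∈ N[L] ⊓ N[U3 x], r * r ∈ U3 x ⊔ C[L] →
    ∃ u ∈ U3 x, ∃ ε φ, Fr3 x (u * r) ε φ ∧ u * r * (u * r) ∈ C[L]
  j3' : ∀ r ∈ N[L] ⊓ N[U3 x], r * r ∈ C[L] → r ∉ L ⊔ C[L] → ∀ u ∈ U3 x,
    u * r * (u * r) ∈ C[L] → ∃ w ∈ U3 x, u * r = w * r * w⁻¹
  fixG : ∀ f, Fr3 x f true 1 → f * f ∈ C[L] → U3 x ⊓ C1[f] = X3 x 0 2 ∧ f ∈ C[X3 x 2 0]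
  fixF : ∀ f ε φ, Fr3 x f ε φ → φ ≠ 1 → f * f ∈ C[L] →
    Nat.card ↥(U3 x ⊓ C1[f]) ^ 2 = Nat.card F ^ 3 ∧
      ∃ u ∈ U3 x ⊓ C1[f], ∃ u' ∈ U3 x ⊓ C1[f], ¬ Commute u u'
  /-- the elementary abelian subgroups of largest order -/
  at2 : ∀ t, Tc L t → ∀ E : Subgroup G, E ≤ N[L] ⊓ N[U3 x] ⊓ C1[t] → (∀ e ∈ E, e * e = 1) →
    2 * Nat.card F ^ 2 ≤ Nat.card E → E = zpowers t ⊔ Row x 0 ∨ E = zpowers t ⊔ Col x 2
  side : ∀ t, Tc L t → ∀ g, ∀ P : Subgroup G, P ≤ C1[g * t * g⁻¹] → IsPGroup 2 P →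
    ∃ l ∈ L, cj (l * g⁻¹) P ≤ N[L] ⊓ N[U3 x] ⊓ C1[t]
  rk : ∀ t, Tc L t → ∀ d ∈ Dt t, ∀ E : Subgroup G, E ≤ C1[d] → (∀ e ∈ E, e * e = 1) →
    Nat.card E ≤ 2 * Nat.card F ^ 2

def Start0 (x : Fin 3 → Fin 3 → F → G) (t : G) : Prop :=
  ∃ g ∈ N[zpowers t ⊔ U3 x], ∃ c, c ≠ 0 ∧ g * t * g⁻¹ = t * x 0 2 c

def Start3 (x : Fin 3 → Fin 3 → F → G) (t : G) : Prop :=
  ∃ p ∈ C[U3 x], ∃ c, c ≠ 0 ∧ p * t * p⁻¹ = t * x 0 2 c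

def HatS (x : Fin 3 → Fin 3 → F → G) (t : G) (i j : Fin 3) : Set G :=
  {p | p ∈ C[Y3 x i j] ∧ p * p = 1 ∧ (∃ a, p * t * p⁻¹ = t * x i j a) ∧ ¬ ∃ a, p = t * x i j a}

/-- `W` is the doubled group over `V`. -/
def Uniq (V W : Subgroup G) (t : G) : Prop :=
  ∀ p ∈ C[V], p * p = 1 → t⁻¹ * (p * t * p⁻¹) ∈ V → p ∈ W ∨ t⁻¹ * p ∈ V

/-- One doubled row. -/
structure HatRow (L : Subgroup G) (x : Fin 3 → Fin 3 → F → G) (t : G) (W : Subgroup G) : Prop where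
  le : Row x 0 ≤ W
  sq : ∀ p ∈ W, p * p = 1
  mov : ∀ p ∈ W, t⁻¹ * (p * t * p⁻¹) ∈ Row x 0
  surj : ∀ v ∈ Row x 0, ∃ p ∈ W, p * t * p⁻¹ = t * v
  fix : ∀ p ∈ W, Commute p t → p ∈ Row x 0
  odd : ∀ k ∈ C[L], Commute k t → Odd (orderOf k) → k ∈ C[W]
  uniq : Uniq (Row x 0) W t
  br : ∀ p ∈ W, p ∈ C[Y3 x 0 1] → ∀ b, ⁅p, x 1 2 b⁆ ∈ C[Y3 x 0 2]
  dec : ∀ p ∈ W, ∃ p1 ∈ W ⊓ C[Y3 x 0 1], ∃ p2 ∈ W ⊓ C[Y3 x 0 2], p = p1 * p2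

/-- The doubled root subgroups. -/
structure Hats3 (L : Subgroup G) (x : Fin 3 → Fin 3 → F → G) (t : G)
    (Xh : Fin 3 → Fin 3 → Subgroup G) : Prop where
  mem : ∀ i j, i ≠ j → ∀ p, p ∈ Xh i j ↔ p ∈ HatS x t i j
  le : ∀ i j, i ≠ j → ∀ a, x i j a ∈ Xh i j
  surj : ∀ i j, i ≠ j → ∀ a, ∃ p ∈ Xh i j, p * t * p⁻¹ = t * x i j a
  fix : ∀ i j, i ≠ j → ∀ p ∈ Xh i j, Commute p t → ∃ a, p = x i j a
  card : ∀ i j, i ≠ j → Nat.card (Xh i j) = Nat.card F ^ 2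
  odd : ∀ k ∈ C[L], Commute k t → Odd (orderOf k) → ∀ i j, i ≠ j → ∀ p ∈ Xh i j, Commute k p
  row : ∀ i j k, i ≠ j → i ≠ k → ∀ p ∈ Xh i j, ∀ p' ∈ Xh i k, Commute p p'
  col : ∀ i j k, i ≠ k → j ≠ k → ∀ p ∈ Xh i k, ∀ p' ∈ Xh j k, Commute p p'
  br : ∀ i j k, i ≠ j → j ≠ k → i ≠ k → ∀ p ∈ Xh i j, ∀ b, ⁅p, x j k b⁆ ∈ Xh i k
  br' : ∀ i j k, i ≠ j → j ≠ k → i ≠ k → ∀ p ∈ Xh j k, ∀ b, ⁅x i j b, p⁆ ∈ Xh i k
  uR : Uniq (Row x 0) (Xh 0 1 ⊔ Xh 0 2) t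
  uC : Uniq (Col x 2) (Xh 1 2 ⊔ Xh 0 2) t

def Com3 (Xh : Fin 3 → Fin 3 → Subgroup G) : Prop :=
  ∀ i j k, i ≠ j → j ≠ k → i ≠ k → ∀ p ∈ Xh i j, ∀ p' ∈ Xh j k, ⁅p, p'⁆ ∈ Xh i k

/-- The doubled group. -/
structure Dbl3 (x : Fin 3 → Fin 3 → F → G) (t : G) {A : Type u} [CommRing A] (i : F →+* A)
    (σ : A ≃+* A) (y : Fin 3 → Fin 3 → A → G) : Prop where
  st : St3 y
  res : ∀ j k, j ≠ k → ∀ a, y j k (i a) = x j k a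
  conj : ∀ j k, j ≠ k → ∀ a, t * y j k a * t⁻¹ = y j k (σ a)
  sq : ∀ a, σ (σ a) = a
  fix : ∀ a, σ a = a ↔ ∃ b, a = i b
  tr : ∃ ω, σ ω = ω + 1
  card : Nat.card A = Nat.card F ^ 2
  uR : Uniq (Row x 0) (Row y 0) t
  uC : Uniq (Col x 2) (Col y 2) t

/-- A Sylow subgroup `S` of the normalizer of `W = U3 y` in the field case. -/
structure Syl3 (U W S : Subgroup G) (t : G) : Prop where
  WS : W ≤ S
  tS : t ∈ S
  SN : S ≤ N[W]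
  tW : t ∉ W
  syl : IsSylowIn 2 S ⊤
  fix : W ⊓ C1[t] = U
  h90 : ∀ w ∈ W, t * w * (t * w) = 1 → ∃ v ∈ W, t * w = v * t * v⁻¹
  ab : ⁅S, S⁆ ≤ W
  rank : ∀ a ∈ S, ∀ b ∈ S, a * a ∈ W → b * b ∈ W → a ∉ W → b ∉ W → t * a ∉ W → t * b ∉ W →
    a * b ∈ W ∨ t * (a * b) ∈ W

end Field

/-- **PIN** -/
def PinStmt3 : Prop :=
  ∀ {A : Type v} [CommRing A] {G : Type u} [Group G] (x : Fin 3 → Fin 3 → A → G), St3 x → Pin3 x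

/-- **ACT** -/
def ActStmt : Prop :=
  ∀ {A : Type v} [Field A] [Finite A] {G : Type u} [Group G] (x : Fin 3 → Fin 3 → A → G),
    St3 x → ∀ g ∈ N[U3 x], ∃ ε φ, Act x g ε φ

/-- **MODEL** -/
def ModelStmt : Prop :=
  ∀ {F : Type v} [Field F] [Finite F] {G : Type u} [Group G] [Finite G] (L : Subgroup G),
    (2 : F) = 0 → 4 ≤ Nat.card F → IsQuasisimple L →
    Nonempty ((L ⧸ oddCore L) ≃* Matrix.ProjectiveSpecialLinearGroup (Fin 3) F) →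
    ∃ x : Fin 3 → Fin 3 → F → G, M3 L x

/-- A statement about one model. -/
def MAll (P : ∀ {F : Type v} [Field F] {G : Type u} [Group G] (_ : Subgroup G)
    (_ : Fin 3 → Fin 3 → F → G), Prop) : Prop :=
  ∀ {F : Type v} [Field F] [Finite F] {G : Type u} [Group G] [Finite G] (L : Subgroup G)
    (x : Fin 3 → Fin 3 → F → G), M3 L x → P L x

/-- **KA** -/
def KAStmt : Prop := MAll.{u, v} fun L x => KA L x

/-- **KB** -/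
def KBStmt : Prop := MAll.{u, v} fun L x => KB L x

/-- **STA** -/
def StAStmt : Prop := MAll.{u, v} fun L x => ∀ t, Tc L t →
  (∃ g, Commute (g * t * g⁻¹) t ∧ g * t * g⁻¹ ≠ t) → Start0 x t

/-- **STB** -/
def StBStmt : Prop := MAll.{u, v} fun L x => ∀ t, Tc L t → Cyc L → Start0 x t →
  Start3 x t ∧ R2 L t

/-- **ROW** -/
def RowStmt : Prop := MAll.{u, v} fun L x => ∀ t, Tc L t → R2 L t → Start3 x t →
  ∃ W, HatRow L x t W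

/-- **HAT** (from **ROW**) -/
def HatStmt3 : Prop := MAll.{u, v} fun L x => ∀ t, Tc L t → R2 L t → Start3 x t →
  ∃ Xh, Hats3 L x t Xh

/-- **COM** -/
def ComStmt3 : Prop := MAll.{u, v} fun L x => ∀ t Xh, Tc L t → R2 L t → Hats3 L x t Xh → Com3 Xh

/-- **RING** -/
def RingStmt3 : Prop := MAll.{u, v} fun {F} _ {G} _ L x => ∀ t Xh, Tc L t → Hats3 L x t Xh →
  Com3 Xh → ∃ (A : Type u) (_ : CommRing A) (i : F →+* A) (σ : A ≃+* A)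
    (y : Fin 3 → Fin 3 → A → G), Dbl3 x t i σ y

/-- A statement about the field case. -/
def FAll (P : ∀ {F : Type v} [Field F] {G : Type u} [Group G] (_ : Subgroup G)
    (_ : Fin 3 → Fin 3 → F → G) (_ : G) {A : Type u} [Field A] (_ : Fin 3 → Fin 3 → A → G),
    Prop) : Prop :=
  MAll.{u, v} fun {F} _ {G} _ L x => ∀ (t : G) {A : Type u} [Field A] (i : F →+* A) (σ : A ≃+* A)
    (y : Fin 3 → Fin 3 → A → G), Tc L t → R2 L t → Dbl3 x t i σ y → P L x t y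

/-- the elementary abelian subgroups of largest order of `S` -/
def J3 {G : Type u} [Group G] {A : Type u} [Field A] (y : Fin 3 → Fin 3 → A → G)
    (S : Subgroup G) : Prop :=
  ∀ E : Subgroup G, E ≤ S → (∀ e ∈ E, e * e = 1) → Nat.card A ^ 2 ≤ Nat.card E →
    E = Row y 0 ∨ E = Col y 2

/-- **F1** -/
def F1Stmt : Prop := FAll.{u, v} fun _ x t _ _ y =>
  ∃ S, Syl3 (U3 x) (U3 y) S t ∧ J3 y S ∧ ∀ s ∈ S, Act y s false 1 → s ∈ U3 y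

/-- **F2** -/
def F2Stmt : Prop := FAll.{u, v} fun _ x t _ _ y =>
  ∀ S, Syl3 (U3 x) (U3 y) S t → J3 y S → (∀ s ∈ S, Act y s false 1 → s ∈ U3 y) →
    ∀ d ∈ Dt t, d ∈ S → t * d ∈ U3 y

/-- **F3** -/
def F3Stmt : Prop := FAll.{u, v} fun {_} _ {G} _ L x t A _ y =>
  ∀ S, Syl3 (U3 x) (U3 y) S t → (∀ d ∈ Dt t, d ∈ S → t * d ∈ U3 y) →
    ∀ X : Subgroup G, Red X L t → ∃ (K : Type) (_ : Field K) (_ : Fintype K),
      Fintype.card K = Nat.card A ∧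
        Nonempty (X ≃* Matrix.ProjectiveSpecialLinearGroup (Fin 3) K)

/-- **WR**: the facts on one factor. -/
def WrL3Stmt : Prop := MAll.{u, v} fun L x =>
  WL L (U3 x) ∧ ClsI L ∧ ∃ W, WX L (U3 x) W

/-- **SPLIT** -/
def SplitStmt : Prop := MAll.{u, v} fun {F} _ {G} _ L x =>
  ∀ (t : G) {A : Type u} [CommRing A] (i : F →+* A) (σ : A ≃+* A) (y : Fin 3 → Fin 3 → A → G)
    (e : A ≃+* F × F), Tc L t → R2 L t → Dbl3 x t i σ y → (∀ b, e (i b) = (b, b)) →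
    (∀ a, e (σ a) = (e a).swap) →
    ∃ L1 : Subgroup G, IsQuasisimple L1 ∧ Nonempty ((L1 ⧸ oddCore L1) ≃* (L ⧸ oddCore L)) ∧
      (∀ a ∈ L1, ∀ b ∈ L1, Commute a (t * b * t⁻¹)) ∧ Hat L1 t ∧
      Odd (Nat.card C[L1 ⊔ cj t L1]) ∧ ⁅L1, L1⁆ = L1

/-- The theorem for `L₃(q)`. -/
def L3Stmt : Prop :=
  ∀ {F : Type v} [Field F] [Finite F] {G : Type u} [Group G] [Finite G] (X L : Subgroup G) (t : G),
    (2 : F) = 0 → 4 ≤ Nat.card F → Red X L t →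
    Nonempty ((L ⧸ oddCore L) ≃* Matrix.ProjectiveSpecialLinearGroup (Fin 3) F) →
    ∃ (K : Type) (_ : Field K) (_ : Fintype K), Fintype.card K = Nat.card F ^ 2 ∧
      Nonempty (X ≃* Matrix.ProjectiveSpecialLinearGroup (Fin 3) K)

theorem l3_of
    (tc : ∀ {G : Type u} [Group G] [Finite G] {X L : Subgroup G} {t : G}, Red X L t →
      Tc L t ∧ ∀ Y : Subgroup G, ⁅Y, Y⁆ = Y → Y ≤ X)
    (hq : QuadStmt.{v, u}) (hw : WrStmt.{u}) (hM : ModelStmt.{u, v}) (h1 : StAStmt.{u, v})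
    (h2 : StBStmt.{u, v}) (h3 : HatStmt3.{u, v}) (h4 : ComStmt3.{u, v}) (h5 : RingStmt3.{u, v})
    (h6 : F1Stmt.{u, v}) (h7 : F2Stmt.{u, v}) (h8 : F3Stmt.{u, v}) (h9 : WrL3Stmt.{u, v})
    (h10 : SplitStmt.{u, v}) : L3Stmt.{u, v} := by
  intro F _ _ G _ _ X L t two four h e0
  obtain ⟨x, m⟩ := hM L two four h.qs e0
  obtain ⟨T, pf⟩ := tc h
  obtain ⟨s, r⟩ := h2 L x m t T h.cyc (h1 L x m t T h.iso)
  obtain ⟨Xh, hh⟩ := h3 L x m t T r s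
  obtain ⟨A, _, i, σ, y, D⟩ := h5 L x m t Xh T hh (h4 L x m t Xh T r hh)
  rcases hq i σ D.st.two D.sq D.fix D.tr D.card with hA | ⟨e, e1, e2⟩
  · letI := hA.toField
    obtain ⟨S, a, b, c⟩ := h6 L x m t i σ y T r D
    obtain ⟨K, _, _, hK, hX⟩ := h8 L x m t i σ y T r D S a (h7 L x m t i σ y T r D S a b c) X h
    exact ⟨K, _, _, hK.trans D.card, hX⟩
  · obtain ⟨L1, qs, ⟨f⟩, cm, hat, odd, pe⟩ := h10 L x m t i σ y e T r D e1 e2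
    obtain ⟨f0⟩ := e0
    obtain ⟨x1, m1⟩ := hM L1 two four qs ⟨f.trans f0⟩
    obtain ⟨a, b, W, c⟩ := h9 L1 x1 m1
    exact (hw X L1 _ W t a c b (by rw [← pow_two, ← h.t2, pow_orderOf_eq_one]) cm hat odd h.nrm
      h.simple h.gen (pf L1 pe)).elim

end Cfsg.Agent.H35.L3
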