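import Mathlib
import Cfsg.Agent.H35.CoxCoset

/-!
# Double cosets of maximal parabolic subgroups of Coxeter groups
-/

set_option autoImplicit false

namespace Cfsg.Agent.H35.CkWalk

open Equiv

/-- The weight space with one extra coordinate. -/
abbrev V : Type := Option ℕ → ℤ

/-- The simple roots; the extra coordinate counts the root `s`. -/
def al (a : ℕ → ℕ → ℤ) (s i : ℕ) : V
  | none => if i = s then -1 else 0
  | some j => a i j

/-- The reflection as a function. -/
def rf (a : ℕ → ℕ → ℤ) (s i : ℕ) (l : V) : V := fun o => l o - l (some i) * al a s i o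

theorem rf_inv {a : ℕ → ℕ → ℤ} (ha : ∀ i, a i i = 2) (s i : ℕ) :
    Function.Involutive (rf a s i) := by
  intro l
  funext o
  simp only [rf, al, ha]
  ring

/-- The reflection. -/
def R {a : ℕ → ℕ → ℤ} (ha : ∀ i, a i i = 2) (s i : ℕ) : Perm V := (rf_inv ha s i).toPerm

section
variable {a : ℕ → ℕ → ℤ} (ha : ∀ i, a i i = 2) (s : ℕ)

theorem R_apply (i : ℕ) (l : V) (o : Option ℕ) :
    R ha s i l o = l o - l (some i) * al a s i o := rfl

theorem R_some (i : ℕ) (l : V) (j : ℕ) :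
    R ha s i l (some j) = l (some j) - l (some i) * a i j := rfl

theorem R_mul_R (i : ℕ) : R ha s i * R ha s i = 1 := by
  ext1 l; exact rf_inv ha s i l

theorem R_inv (i : ℕ) : (R ha s i)⁻¹ = R ha s i := inv_eq_of_mul_eq_one_right (R_mul_R ha s i)

theorem rel2 {i j : ℕ} (h1 : a i j = 0) (h2 : a j i = 0) : (R ha s i * R ha s j) ^ 2 = 1 := by
  ext l o
  simp only [pow_succ, pow_zero, one_mul, Perm.mul_apply, R_apply, Perm.one_apply]
  simp only [al, ha, h1, h2]
  ring

theorem rel3 {i j : ℕ} (h1 : a i j = -1) (h2 : a j i = -1) : (R ha s i * R ha s j) ^ 3 = 1 := by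
  ext l o
  simp only [pow_succ, pow_zero, one_mul, Perm.mul_apply, R_apply, Perm.one_apply]
  simp only [al, ha, h1, h2]
  ring

theorem rel4 {i j : ℕ} (h1 : a i j = -1) (h2 : a j i = -2) : (R ha s i * R ha s j) ^ 4 = 1 := by
  ext l o
  simp only [pow_succ, pow_zero, one_mul, Perm.mul_apply, R_apply, Perm.one_apply]
  simp only [al, ha, h1, h2]
  ring

theorem rel4' {i j : ℕ} (h1 : a i j = -2) (h2 : a j i = -1) : (R ha s i * R ha s j) ^ 4 = 1 := by
  ext l o
  simp only [pow_succ, pow_zero, one_mul, Perm.mul_apply, R_apply, Perm.one_apply]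
  simp only [al, ha, h1, h2]
  ring

/-- The fundamental weight. -/
def om (s : ℕ) : V := fun o => if o = some s then 1 else 0

theorem R_om {i : ℕ} (h : i ≠ s) : R ha s i (om s) = om s := by
  funext o; simp [R_apply, om, h]

theorem R_none {i : ℕ} (h : i ≠ s) (l : V) : R ha s i l none = l none := by
  simp [R_apply, al, h]

theorem R_none_s (l : V) : R ha s s l none = l none + l (some s) := by
  simp [R_apply, al]

/-- The walk along a path. -/
def L (t : ℕ → ℕ) : ℕ → Perm V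
  | 0 => 1
  | k + 1 => R ha s (t k) * L t k

/-- A path starting at `s`. -/
structure Path (a : ℕ → ℕ → ℤ) (s : ℕ) (t : ℕ → ℕ) (k : ℕ) : Prop where
  t0 : t 0 = s
  ne : ∀ j, j < k → t (j + 1) ≠ s
  adj : ∀ j, j < k → a (t j) (t (j + 1)) = -1 ∧ a (t (j + 1)) (t j) = -1
  far : ∀ i j, i < j → j < k → a (t i) (t (j + 1)) = 0 ∧ a (t (j + 1)) (t i) = 0

variable {s}

theorem Path.sum1 {t : ℕ → ℕ} {k : ℕ} (h : Path a s t k) {j : ℕ} (hj : j < k) :
    ∑ i ∈ Finset.range (j + 1), a (t i) (t (j + 1)) = -1 := by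
  rw [Finset.sum_range_succ, (h.adj j hj).1, Finset.sum_eq_zero, zero_add]
  intro i hi
  exact (h.far i j (Finset.mem_range.1 hi) hj).1

theorem Path.sum2 {t : ℕ → ℕ} {k : ℕ} (h : Path a s t k) {j : ℕ} (hj : j < k) :
    ∑ i ∈ Finset.range (j + 1), a (t (j + 1)) (t i) = -1 := by
  rw [Finset.sum_range_succ, (h.adj j hj).2, Finset.sum_eq_zero, zero_add]
  intro i hi
  exact (h.far i j (Finset.mem_range.1 hi) hj).2

theorem fwd {t : ℕ → ℕ} {k : ℕ} (h : Path a s t k) (j : ℕ) (hj : j ≤ k) (o : Option ℕ) :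
    L ha s t (j + 1) (om s) o = om s o - ∑ i ∈ Finset.range (j + 1), al a s (t i) o := by
  induction j generalizing o with
  | zero => simp [L, R_apply, h.t0, om]
  | succ j ih =>
    have h1 : L ha s t (j + 1) (om s) (some (t (j + 1))) = 1 := by
      rw [ih (by omega)]
      simp only [al, h.sum1 (show j < k by omega)]
      simp [om, h.ne j (by omega)]
    rw [L, Perm.mul_apply, R_apply, h1, ih (by omega), Finset.sum_range_succ _ (j + 1)]
    ring

theorem bwd {t : ℕ → ℕ} {k : ℕ} (h : Path a s t k) (j : ℕ) (hj : j ≤ k) (l : V) :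
    (L ha s t (j + 1))⁻¹ l none = l none + ∑ i ∈ Finset.range (j + 1), l (some (t i)) := by
  induction j generalizing l with
  | zero => simp [L, R_inv, R_none_s, h.t0]
  | succ j ih =>
    rw [L, mul_inv_rev, R_inv, Perm.mul_apply, ih (by omega), R_none ha s (h.ne j (by omega)),
      Finset.sum_range_succ _ (j + 1)]
    simp only [R_some, Finset.sum_sub_distrib, ← Finset.mul_sum, h.sum2 (show j < k by omega)]
    ring

theorem L_mem {Γ : Subgroup (Perm V)} {t : ℕ → ℕ} (k : ℕ) (h : ∀ j, j < k → R ha s (t j) ∈ Γ) :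
    L ha s t k ∈ Γ := by
  induction k with
  | zero => exact one_mem _
  | succ k ih => exact mul_mem (h k (by omega)) (ih fun j hj => h j (by omega))

theorem sum_fwd {t : ℕ → ℕ} {k : ℕ} (h : Path a s t k) :
    L ha s t (k + 1) (om s) none + ∑ i ∈ Finset.range (k + 1), L ha s t (k + 1) (om s) (some (t i))
      = 0 := by
  rw [← bwd ha h k le_rfl]
  simp [om]

theorem fwd_x {t : ℕ → ℕ} {k : ℕ} (h : Path a s t k) {x : ℕ} (hx : x ≠ s)
    (h0 : ∀ i, i < k → a (t i) x = 0) : L ha s t (k + 1) (om s) (some x) = - a (t k) x := by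
  rw [fwd ha h k le_rfl, Finset.sum_range_succ, Finset.sum_eq_zero]
  · simp [om, hx, al]
  · intro i hi
    exact h0 i (Finset.mem_range.1 hi)

theorem sum_x {t : ℕ → ℕ} {k : ℕ} {x : ℕ} (h0 : ∀ i, i < k → a x (t i) = 0) :
    ∑ i ∈ Finset.range (k + 1), a x (t i) = a x (t k) := by
  rw [Finset.sum_range_succ, Finset.sum_eq_zero, zero_add]
  intro i hi
  exact h0 i (Finset.mem_range.1 hi)

/-- A path ending at a double bond. -/
theorem bond {Γ : Subgroup (Perm V)} (hΓ : ∀ σ ∈ Γ, σ (om s) none = 0 ∨ σ (om s) none = 1)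
    {t : ℕ → ℕ} {k : ℕ} (h : Path a s t k) (ht : ∀ j, j ≤ k → R ha s (t j) ∈ Γ)
    {x : ℕ} (hx : x ≠ s) (hxΓ : R ha s x ∈ Γ)
    (h0 : ∀ i, i < k → a (t i) x = 0 ∧ a x (t i) = 0) (h2 : a (t k) x * a x (t k) = 2) : False := by
  have hL : L ha s t (k + 1) ∈ Γ := L_mem ha _ fun j hj => ht j (by omega)
  have key := hΓ _ (mul_mem (inv_mem hL) (mul_mem hxΓ hL))
  rw [Perm.mul_apply, Perm.mul_apply, bwd ha h k le_rfl, R_none ha s hx] at key
  simp only [R_some, Finset.sum_sub_distrib, ← Finset.mul_sum,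
    sum_x (fun i hi => (h0 i hi).2), fwd_x ha h hx (fun i hi => (h0 i hi).1)] at key
  have := sum_fwd ha h
  rcases key with key | key <;> nlinarith

/-- A path ending at a branch point. -/
theorem branch {Γ : Subgroup (Perm V)} (hΓ : ∀ σ ∈ Γ, σ (om s) none = 0 ∨ σ (om s) none = 1)
    {t : ℕ → ℕ} {k : ℕ} (h : Path a s t k) (ht : ∀ j, j ≤ k → R ha s (t j) ∈ Γ)
    {x y : ℕ} (hx : x ≠ s) (hy : y ≠ s) (hxΓ : R ha s x ∈ Γ) (hyΓ : R ha s y ∈ Γ)
    (h0 : ∀ i, i < k → a (t i) x = 0 ∧ a x (t i) = 0)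
    (h0' : ∀ i, i < k → a (t i) y = 0 ∧ a y (t i) = 0) (hxy : a x y = 0)
    (h2 : 1 ≤ a (t k) x * a x (t k)) (h2' : 1 ≤ a (t k) y * a y (t k)) : False := by
  have hL : L ha s t (k + 1) ∈ Γ := L_mem ha _ fun j hj => ht j (by omega)
  have key := hΓ _ (mul_mem (inv_mem hL) (mul_mem hyΓ (mul_mem hxΓ hL)))
  rw [Perm.mul_apply, Perm.mul_apply, Perm.mul_apply, bwd ha h k le_rfl, R_none ha s hy,
    R_none ha s hx] at key
  simp only [R_some, Finset.sum_sub_distrib, ← Finset.mul_sum, hxy,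
    sum_x (fun i hi => (h0 i hi).2), fwd_x ha h hx (fun i hi => (h0 i hi).1),
    sum_x (fun i hi => (h0' i hi).2), fwd_x ha h hy (fun i hi => (h0' i hi).1)] at key
  have := sum_fwd ha h
  rcases key with key | key <;> nlinarith

end

/-- The Cartan matrix of a Coxeter matrix with entries at most four. -/
def ca (M : ℕ → ℕ → ℕ) (i j : ℕ) : ℤ :=
  if i = j then 2 else if M i j = 2 then 0 else if M i j = 3 then -1 else if i < j then -1 else -2

theorem ca_self (M : ℕ → ℕ → ℕ) (i : ℕ) : ca M i i = 2 := by simp [ca]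

theorem rel (M : ℕ → ℕ → ℕ) (s i j : ℕ) (hs : M j i = M i j) (h1 : i = j → M i j = 1)
    (h2 : i ≠ j → M i j = 2 ∨ M i j = 3 ∨ M i j = 4) :
    (R (ca_self M) s i * R (ca_self M) s j) ^ M i j = 1 := by
  by_cases hij : i = j
  · rw [h1 hij, hij, pow_one, R_mul_R]
  have hji : j ≠ i := fun h => hij h.symm
  rcases h2 hij with h | h | h
  · rw [h]; apply rel2 <;> simp [ca, hij, hji, hs, h]
  · rw [h]; apply rel3 <;> simp [ca, hij, hji, hs, h]
  · rw [h]
    rcases lt_or_gt_of_ne hij with hl | hl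
    · apply rel4 <;> simp [ca, hij, hji, hs, h, hl, hl.le]
    · apply rel4' <;> simp [ca, hij, hji, hs, h, hl, hl.le]

/-! ### Type `A` -/

section A

variable {B W : Type*} [Group W] (X : InvGen B W) (t : ℕ → B)

/-- The minimal coset representatives. -/
def dd : ℕ → W
  | 0 => 1
  | k + 1 => X.s (t k) * dd k

/-- A chain of `n` nodes. -/
structure Chain (n : ℕ) : Prop where
  exch : X.Exchange
  inj : Function.Injective X.s
  sur : ∀ b, ∃ i, i < n ∧ t i = b
  tinj : ∀ i j, i < n → j < n → t i = t j → i = j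
  m2 : ∀ i j, i + 2 ≤ j → j < n → X.s (t i) * X.s (t j) = X.s (t j) * X.s (t i)
  m3 : ∀ i, i + 1 < n → orderOf (X.s (t i) * X.s (t (i + 1))) = 3

variable {X t}

theorem Chain.comm {n : ℕ} (h : Chain X t n) (k j : ℕ) (hk : k + 1 ≤ j) (hj : j < n) :
    X.s (t j) * dd X t k = dd X t k * X.s (t j) := by
  induction k with
  | zero => simp [dd]
  | succ k ih =>
    rw [dd, ← mul_assoc, ← h.m2 k j (by omega) hj, mul_assoc, ih (by omega), mul_assoc]

theorem Chain.braid {n : ℕ} (h : Chain X t n) (i : ℕ) (hi : i + 1 < n) :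
    X.s (t i) * X.s (t (i + 1)) * X.s (t i) = X.s (t (i + 1)) * X.s (t i) * X.s (t (i + 1)) := by
  have h3 : (X.s (t i) * X.s (t (i + 1))) ^ 3 = 1 := by rw [← h.m3 i hi, pow_orderOf_eq_one]
  have : X.s (t i) * X.s (t (i + 1)) * X.s (t i) *
      (X.s (t (i + 1)) * X.s (t i) * X.s (t (i + 1)))⁻¹ = 1 := by
    rw [← h3]; simp [pow_succ, mul_assoc]
  exact mul_inv_eq_one.1 this

theorem Chain.shift {n : ℕ} (h : Chain X t n) (k j : ℕ) (hk : j + 2 ≤ k) (hn : k ≤ n) :
    X.s (t j) * dd X t k = dd X t k * X.s (t (j + 1)) := by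
  induction k with
  | zero => omega
  | succ k ih =>
    by_cases hjk : j + 2 ≤ k
    · rw [dd, ← mul_assoc, h.m2 j k hjk (by omega), mul_assoc, ih hjk (by omega), mul_assoc]
    · obtain rfl : k = j + 1 := by omega
      rw [dd, dd, ← mul_assoc, ← mul_assoc, h.braid j (by omega), mul_assoc, mul_assoc,
        h.comm j (j + 1) le_rfl (by omega)]
      simp only [mul_assoc]

theorem Chain.cover {n : ℕ} (h : Chain X t n) (w : W) :
    ∃ k, k ≤ n ∧ ∃ v ∈ Subgroup.closure (X.s '' {b | b ≠ t 0}), w = dd X t k * v := by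
  induction w using X.induction_left with
  | h1 => exact ⟨0, Nat.zero_le _, 1, one_mem _, by simp [dd]⟩
  | hs b w _ ih =>
    obtain ⟨k, hk, v, hv, rfl⟩ := ih
    obtain ⟨j, hj, rfl⟩ := h.sur b
    have hm : ∀ i, 0 < i → i < n → X.s (t i) ∈ Subgroup.closure (X.s '' {b | b ≠ t 0}) :=
      fun i h0 hi => InvGen.s_mem_closure fun he => by
        have := h.tinj i 0 hi (by omega) he
        omega
    rcases lt_trichotomy j k with hl | rfl | hl
    · by_cases h2 : j + 2 ≤ k
      · refine ⟨k, hk, _, mul_mem (hm (j + 1) (by omega) (by omega)) hv, ?_⟩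
        rw [← mul_assoc, h.shift k j h2 hk, mul_assoc]
      · obtain rfl : k = j + 1 := by omega
        exact ⟨j, by omega, v, hv, by simp [dd, ← mul_assoc, X.s_mul_s]⟩
    · exact ⟨j + 1, by omega, v, hv, by rw [dd, mul_assoc]⟩
    · refine ⟨k, hk, _, mul_mem (hm j (by omega) hj) hv, ?_⟩
      rw [← mul_assoc, h.comm k j (by omega) hj, mul_assoc]

theorem dd_mem (k : ℕ) : dd X t k ∈ Subgroup.closure (X.s '' {b | ∃ i, i < k ∧ t i = b}) := by
  induction k with
  | zero => exact one_mem _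
  | succ k ih =>
    refine mul_mem (InvGen.s_mem_closure ⟨k, by omega, rfl⟩) (Subgroup.closure_mono ?_ ih)
    apply Set.image_mono
    rintro b ⟨i, hi, rfl⟩
    exact ⟨i, by omega, rfl⟩

end A

end Cfsg.Agent.H35.CkWalk
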