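import Mathlib
import Cfsg.Agent.H74.CksDefs
import Cfsg.Agent.H35.CkWalk

/-!
# Doubly transitive actions on the cosets of a parabolic subgroup
-/

set_option autoImplicit false

namespace Cfsg.Agent.H35.CkDc

open Cfsg.Agent.H35 Cfsg.Agent.Lead.T3 Cfsg.Agent.H74.Cks CkWalk Equiv

section BN

variable {G : Type} [Group G] {P : BNPair G}

theorem chain_red {t : ℕ → P.S} {n : ℕ} (h : Chain (BN.gens P) t n) (k : ℕ) (hk : k ≤ n) :
    (BN.gens P).len (dd (BN.gens P) t k) = k ∧ ∀ b, b ≠ t 0 →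
      (BN.gens P).len (dd (BN.gens P) t k) ≤
        (BN.gens P).len (dd (BN.gens P) t k * (BN.gens P).s b) := by
  induction k with
  | zero => simp [dd]
  | succ k ih =>
    obtain ⟨h1, h2⟩ := ih (by omega)
    have hup : (BN.gens P).len (dd (BN.gens P) t (k + 1)) = k + 1 := by
      rw [dd]
      rcases BN.len_s_mul (t k) (dd (BN.gens P) t k) with h3 | h3
      · rw [h3, h1]
      · exfalso
        obtain ⟨l, hl, hw⟩ := (BN.gens P).exists_red ((BN.gens P).s (t k) * dd (BN.gens P) t k)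
        have hw' : (BN.gens P).wp (t k :: l) = dd (BN.gens P) t k := by simp [hw]
        have hr : (BN.gens P).IsRed (t k :: l) := by
          unfold InvGen.IsRed
          rw [hw', List.length_cons, hl, h3]
        obtain ⟨i, hi, he⟩ := BN.letter_mem_of_mem_WJ (J := {b | ∃ i, i < k ∧ t i = b}) hr
          (by rw [hw']; exact dd_mem k) (t k) (by simp)
        have := h.tinj i k (by omega) (by omega) he
        omega
    refine ⟨hup, fun b hb => ?_⟩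
    by_contra hlt
    rw [hup] at hlt
    have h3 := h2 b hb
    have h4 : (BN.gens P).len (dd (BN.gens P) t k * (BN.gens P).s b) = k + 1 := by
      rcases BN.len_mul_s b (dd (BN.gens P) t k) with h4 | h4 <;> omega
    have h5 : (BN.gens P).s (t k) * dd (BN.gens P) t k = dd (BN.gens P) t k * (BN.gens P).s b := by
      apply BN.s_mul_eq_mul_s
      · rw [dd] at hup; omega
      · rw [dd, mul_assoc] at hlt; omega
    obtain ⟨j, hj, rfl⟩ := h.sur b
    have hj0 : j ≠ 0 := fun e => hb (by rw [e])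
    rcases lt_trichotomy j k with hl | rfl | hl
    · obtain ⟨j, rfl⟩ : ∃ i, j = i + 1 := ⟨j - 1, by omega⟩
      rw [← h.shift k j (by omega) (by omega)] at h5
      have := h.tinj k j (by omega) (by omega) (h.inj (mul_right_cancel h5))
      omega
    · obtain ⟨j, rfl⟩ : ∃ i, j = i + 1 := ⟨j - 1, by omega⟩
      rw [dd, mul_assoc, ← h.comm j (j + 1) le_rfl hj, ← mul_assoc, ← mul_assoc] at h5
      have h6 := mul_right_cancel h5
      have h7 : ((BN.gens P).s (t j) * (BN.gens P).s (t (j + 1))) ^ 2 = 1 := by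
        rw [pow_two]
        nth_rewrite 1 [← h6]
        simp [mul_assoc, (BN.gens P).s_mul_s]
      have := orderOf_dvd_of_pow_eq_one h7
      rw [h.m3 j hj] at this
      omega
    · rw [← h.comm k j (by omega) hj] at h5
      have := h.tinj k j (by omega) (by omega) (h.inj (mul_right_cancel h5))
      omega

theorem chain_dred {t : ℕ → P.S} {n : ℕ} (h : Chain (BN.gens P) t n) (k : ℕ) (hk : k ≤ n) :
    (BN.gens P).IsDRed ∅ {b | b ≠ t 0} (dd (BN.gens P) t k) :=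
  ⟨fun _ hi => hi.elim, (chain_red h k hk).2⟩

open Classical in
theorem chain_sum [Fintype (BN.W P)] {t : ℕ → P.S} {n : ℕ} (h : Chain (BN.gens P) t n) (q : ℕ) :
    ∑ w : BN.W P, q ^ (BN.gens P).len w = (∑ k ∈ Finset.range (n + 1), q ^ k) *
      ∑ v ∈ Finset.univ.filter (· ∈ BN.WJ P {b | b ≠ t 0}), q ^ (BN.gens P).len v := by
  rw [Finset.sum_mul_sum, ← Finset.sum_product']
  symm
  refine Finset.sum_bij (fun x _ => dd (BN.gens P) t x.1 * x.2) (fun _ _ => Finset.mem_univ _)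
    ?_ ?_ ?_
  · rintro ⟨k, v⟩ hx ⟨k', v'⟩ hx' he
    simp only [Finset.mem_product, Finset.mem_range, Finset.mem_filter, Finset.mem_univ,
      true_and] at hx hx' he
    have e1 : dd (BN.gens P) t k = dd (BN.gens P) t k' :=
      (h.exch.existsUnique_isDRed ∅ {b | b ≠ t 0} (dd (BN.gens P) t k * v)).unique
        ⟨chain_dred h k (by omega), 1, one_mem _, v, hx.2, by simp⟩
        ⟨chain_dred h k' (by omega), 1, one_mem _, v', hx'.2, by simp [he]⟩
    have e2 : k = k' := by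
      rw [← (chain_red h k (by omega)).1, e1, (chain_red h k' (by omega)).1]
    rw [e1] at he
    rw [e2, mul_left_cancel he]
  · intro w _
    obtain ⟨k, hk, v, hv, rfl⟩ := h.cover w
    exact ⟨(k, v), by simpa using ⟨by omega, hv⟩, rfl⟩
  · rintro ⟨k, v⟩ hx
    simp only [Finset.mem_product, Finset.mem_range, Finset.mem_filter, Finset.mem_univ,
      true_and] at hx
    rw [h.exch.len_mul_of_isDRed (chain_dred h k (by omega)) hx.2, (chain_red h k (by omega)).1,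
      pow_add]

open Classical in
theorem relIndex_eq [Fintype (G ⧸ P.B)] [Fintype (BN.W P)] (J : Set P.S) :
    P.B.relIndex (P.parabolic (Subtype.val '' J)) =
      ∑ v ∈ Finset.univ.filter (· ∈ BN.WJ P J), BN.ind P v := by
  set H := P.parabolic (Subtype.val '' J) with hH
  have hs : ∀ x : H, x • ((1 : G) : G ⧸ P.B) = ((x : G) : G ⧸ P.B) := fun x => by
    change (((x : G) * 1 : G) : G ⧸ P.B) = _
    rw [mul_one]
  have h1 : P.B.subgroupOf H = MulAction.stabilizer H ((1 : G) : G ⧸ P.B) := by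
    ext x
    rw [Subgroup.mem_subgroupOf, MulAction.mem_stabilizer_iff, hs, eq_comm, QuotientGroup.eq]
    simp
  have h2 : MulAction.orbit H ((1 : G) : G ⧸ P.B) =
      ↑(Finset.univ.filter fun y => BN.wdist P ((1 : G) : G ⧸ P.B) y ∈ BN.WJ P J) := by
    ext y
    obtain ⟨g, rfl⟩ := QuotientGroup.mk_surjective y
    simp only [Finset.coe_filter, Finset.mem_univ, true_and, Set.mem_ofPred_eq, BN.wdist_mk,
      inv_one, one_mul, ← BN.mem_parabolic_iff_bruhat, MulAction.mem_orbit_iff]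
    constructor
    · rintro ⟨x, hx⟩
      rw [hs, QuotientGroup.eq] at hx
      have := mul_mem x.2 (BN.B_le_parabolic _ hx)
      simpa using this
    · intro hg
      exact ⟨⟨g, hg⟩, hs _⟩
  rw [Subgroup.relIndex, h1, MulAction.index_stabilizer, h2, Set.ncard_coe_finset,
    Finset.card_eq_sum_card_fiberwise (f := fun y => BN.wdist P ((1 : G) : G ⧸ P.B) y)
      (t := Finset.univ.filter (· ∈ BN.WJ P J)) (by intro y hy; simpa using hy)]
  refine Finset.sum_congr rfl fun v hv => ?_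
  rw [← BN.card_filter_wdist ((1 : G) : G ⧸ P.B) v, Finset.filter_filter]
  congr 1
  ext y
  simp only [Finset.mem_filter, Finset.mem_univ, true_and] at hv ⊢
  exact ⟨fun h => h.2, fun h => ⟨h ▸ hv, h⟩⟩

theorem ind_eq [Fintype (G ⧸ P.B)] {q : ℕ} (hq : ∀ i, BN.ind P ((BN.gens P).s i) = q)
    (w : BN.W P) : BN.ind P w = q ^ (BN.gens P).len w := by
  obtain ⟨l, hl, rfl⟩ := (BN.gens P).exists_isRed w
  rw [BN.ind_wp hl, hl]
  simp [hq]

theorem index_eq [Finite G] {t : ℕ → P.S} {n : ℕ} (h : Chain (BN.gens P) t n) {q : ℕ}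
    (hq : ∀ i, BN.ind P ((BN.gens P).s i) = q) :
    (P.parabolic (Subtype.val '' {b | b ≠ t 0})).index = ∑ k ∈ Finset.range (n + 1), q ^ k := by
  classical
  let _ : Fintype (G ⧸ P.B) := Fintype.ofFinite _
  let _ : Fintype (BN.W P) := Fintype.ofFinite _
  have h1 := Subgroup.relIndex_mul_index
    (BN.B_le_parabolic (P := P) (Subtype.val '' {b | b ≠ t 0}))
  have h2 : P.B.index = ∑ w : BN.W P, BN.ind P w := by
    rw [← BN.card_quotient_eq_sum, Subgroup.index, Nat.card_eq_fintype_card]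
  have h3 := relIndex_eq (P := P) {b | b ≠ t 0}
  have h0 : P.B.relIndex (P.parabolic (Subtype.val '' {b | b ≠ t 0})) ≠ 0 :=
    Subgroup.index_ne_zero_of_finite
  simp only [ind_eq hq] at h2 h3
  rw [h2, chain_sum h q, mul_comm] at h1
  refine Nat.eq_of_mul_eq_mul_right (Nat.pos_of_ne_zero h0) ?_
  rw [h1, h3]

/-- The double cosets. -/
theorem core {H : Subgroup G} (hT : Two H) (hB : P.B ≤ H) : ∃ s : P.S,
    H = P.parabolic (Subtype.val '' {b | b ≠ s}) ∧ ∀ w : BN.W P, w ∈ BN.WJ P {b | b ≠ s} ∨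
      ∃ u ∈ BN.WJ P {b | b ≠ s}, ∃ v ∈ BN.WJ P {b | b ≠ s}, w = u * (BN.gens P).s s * v := by
  have hH := BN.eq_parabolic_of_le hB
  obtain ⟨s, hs⟩ : ∃ s : P.S, (s : G) ∉ H := by
    by_contra hn
    push Not at hn
    apply hT.max.1
    rw [eq_top_iff, ← BN.parabolic_S (P := P), BN.parabolic_le_iff]
    exact ⟨hB, fun x hx => hn ⟨x, hx⟩⟩
  have hJ : {i : P.S | (i : G) ∈ H} = {b | b ≠ s} := by
    ext i
    refine ⟨fun hi he => hs (he ▸ hi), fun hi => ?_⟩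
    have hlt : H < P.parabolic (Subtype.val '' insert s {i : P.S | (i : G) ∈ H}) := by
      refine lt_of_le_of_ne ?_ fun he => hs ?_
      · nth_rewrite 1 [hH]
        exact BN.parabolic_mono (Set.image_mono (Set.subset_insert _ _))
      · rw [he]
        exact BN.s_mem_parabolic_iff'.2 (Set.mem_insert _ _)
    have := hT.max.2 _ hlt
    have h2 : (i : G) ∈ P.parabolic (Subtype.val '' insert s {i : P.S | (i : G) ∈ H}) := by
      rw [this]; trivial
    exact (BN.s_mem_parabolic_iff'.1 h2).resolve_left hi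
  rw [hJ] at hH
  refine ⟨s, hH, fun w => ?_⟩
  by_cases hw : w ∈ BN.WJ P {b | b ≠ s}
  · exact Or.inl hw
  right
  have hg : BN.rep P w ∉ H := by
    rw [hH, BN.mem_parabolic_iff_of_mem_cell (BN.rep_mem_cell w)]; exact hw
  have hne : ∀ g : G, g ∉ H → ((1 : G) : G ⧸ H) ≠ (g : G ⧸ H) := fun g hg he => by
    rw [QuotientGroup.eq] at he
    exact hg (by simpa using he)
  obtain ⟨x, hx1, hx2⟩ := MulAction.is_two_pretransitive_iff.1 hT.two (hne _ hs) (hne _ hg)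
  rw [MulAction.Quotient.smul_mk, smul_eq_mul, QuotientGroup.eq] at hx1 hx2
  have hx : x ∈ H := by simpa using hx1
  obtain ⟨u, hu, hc⟩ := BN.parabolic_mul_mem_cell (hH ▸ hx) (BN.s_mem_cell s)
  obtain ⟨v, hv, hc'⟩ := BN.parabolic_mul_mem_cell (hH ▸ (inv_mem hx2)) (BN.inv_mem_cell hc)
  refine ⟨u, hu, v⁻¹, inv_mem hv, ?_⟩
  have h3 := BN.inv_mem_cell hc'
  simp only [mul_inv_rev, inv_inv, InvGen.inv_s] at h3
  have h4 : x * s * ((s : G)⁻¹ * x⁻¹ * BN.rep P w) = BN.rep P w := by group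
  rw [h4] at h3
  exact BN.eq_of_mem_cell (BN.rep_mem_cell w) h3

end BN

/-- The natural number version of `tm`. -/
def tmN (par : ℕ → ℕ) (sp : ℕ) (a b : ℕ) : ℕ :=
  if a = b then 1 else
    if (b ≠ 0 ∧ par b = a) ∨ (a ≠ 0 ∧ par a = b) then (if max a b = sp then 4 else 3) else 2

theorem tm_eq (n : ℕ) (par : ℕ → ℕ) (sp : ℕ) (a b : Fin n) : tm n par sp a b = tmN par sp a b := by
  simp [tm, tmN, Fin.ext_iff]

theorem tmN_symm (par : ℕ → ℕ) (sp : ℕ) (a b : ℕ) : tmN par sp b a = tmN par sp a b := by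
  simp only [tmN, eq_comm (a := b) (b := a), or_comm, max_comm]

theorem exists_rep {G : Type} [Group G] {p n : ℕ} (S : Sys G p n) {par : ℕ → ℕ} {sp : ℕ}
    (hm : ∀ a b, S.m a b = tm n par sp a b) {H : Subgroup G} (hT : Two H) (hB : S.B ≤ H) :
    ∃ s : Fin n, H = S.bn.parabolic (Subtype.val '' {b | b ≠ S.e s}) ∧ ∃ Γ : Subgroup (Perm V),
      (∀ σ ∈ Γ, σ (om s) none = 0 ∨ σ (om s) none = 1) ∧
      ∀ i, i < n → R (ca_self (tmN par sp)) s i ∈ Γ := by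
  obtain ⟨s, hH, hW⟩ := core hT hB
  obtain ⟨s, rfl⟩ := S.e.surjective s
  obtain ⟨cs, hcs⟩ := BN.exists_coxeterSystem S.bn
  let f : S.bn.S → Perm V := fun b => R (ca_self (tmN par sp)) s (S.e.symm b)
  have hf : (BN.coxeterMatrix S.bn).IsLiftable f := by
    intro i j
    obtain ⟨i, rfl⟩ := S.e.surjective i
    obtain ⟨j, rfl⟩ := S.e.surjective j
    have : BN.coxeterMatrix S.bn (S.e i) (S.e j) = tmN par sp i j := by
      rw [BN.coxeterMatrix_apply, ← tm_eq, ← hm]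
    simp only [f, Equiv.symm_apply_apply]
    erw [this]
    refine rel _ _ _ _ (tmN_symm _ _ _ _) (fun h => by simp [tmN, h]) fun h => ?_
    simp only [tmN, if_neg h]
    split_ifs <;> simp
  let ρ : BN.W S.bn →* Perm V := cs.lift ⟨f, hf⟩
  have hρ : ∀ b, ρ ((BN.gens S.bn).s b) = f b := fun b => by
    rw [← hcs]; exact cs.lift_apply_simple hf b
  have hJ : ∀ u ∈ BN.WJ S.bn {b | b ≠ S.e s}, ρ u (om s) = om s ∧ ∀ l, ρ u l none = l none := by
    intro u hu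
    obtain ⟨l, hl, rfl⟩ := (BN.gens S.bn).mem_closure_iff.1 hu
    clear hu
    induction l with
    | nil => simp
    | cons b l ih =>
      obtain ⟨h1, h2⟩ := ih fun i hi => hl i (List.mem_cons_of_mem _ hi)
      have hb : ((S.e.symm b : Fin n) : ℕ) ≠ s := fun he => hl b (by simp) (by
        rw [← Fin.ext he]; simp)
      rw [InvGen.wp_cons, map_mul, hρ]
      exact ⟨by rw [Perm.mul_apply, h1]; exact R_om _ _ hb,
        fun l => by rw [Perm.mul_apply, R_none _ _ hb, h2]⟩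
  refine ⟨s, hH, ρ.range, ?_, fun i hi => ⟨S.w ⟨i, hi⟩, by rw [hρ]; simp [f]⟩⟩
  rintro _ ⟨w, rfl⟩
  rcases hW w with h | ⟨u, hu, v, hv, rfl⟩
  · left; rw [(hJ w h).1]; simp [om]
  · right
    rw [map_mul, map_mul, Perm.mul_apply, Perm.mul_apply, (hJ v hv).1, (hJ u hu).2, hρ]
    simp only [f, Equiv.symm_apply_apply]
    rw [R_none_s]
    simp [om]

section Types

variable {n s : ℕ} {par : ℕ → ℕ} {sp : ℕ} {Γ : Subgroup (Perm V)}

theorem ca_zero {a b : ℕ} (h : a ≠ b) (h1 : ¬ (b ≠ 0 ∧ par b = a)) (h2 : ¬ (a ≠ 0 ∧ par a = b)) :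
    ca (tmN par sp) a b = 0 ∧ ca (tmN par sp) b a = 0 := by
  simp [ca, tmN, h, h.symm, h1, h2]

theorem ca_three {a b : ℕ} (h : a ≠ b) (h1 : (b ≠ 0 ∧ par b = a) ∨ (a ≠ 0 ∧ par a = b))
    (h2 : max a b ≠ sp) : ca (tmN par sp) a b = -1 ∧ ca (tmN par sp) b a = -1 := by
  have h3 : tmN par sp a b = 3 := by rw [tmN, if_neg h, if_pos h1, if_neg h2]
  have h4 : tmN par sp b a = 3 := by rw [tmN_symm, h3]
  simp [ca, h, h.symm, h3, h4]

theorem ca_four {a b : ℕ} (h : a ≠ b) (h1 : (b ≠ 0 ∧ par b = a) ∨ (a ≠ 0 ∧ par a = b))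
    (h2 : max a b = sp) : ca (tmN par sp) a b * ca (tmN par sp) b a = 2 := by
  have h3 : tmN par sp a b = 4 := by rw [tmN, if_neg h, if_pos h1, if_pos h2]
  have h4 : tmN par sp b a = 4 := by rw [tmN_symm, h3]
  rcases lt_or_gt_of_ne h with hl | hl <;> simp [ca, h, h.symm, h3, h4, hl, hl.not_gt]

theorem ca_adj {a b : ℕ} (h : a ≠ b) (h1 : (b ≠ 0 ∧ par b = a) ∨ (a ≠ 0 ∧ par a = b)) :
    1 ≤ ca (tmN par sp) a b * ca (tmN par sp) b a := by
  by_cases h2 : max a b = sp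
  · rw [ca_four h h1 h2]; norm_num
  · rw [(ca_three h h1 h2).1, (ca_three h h1 h2).2]; norm_num

/-- Adjacency in the tree. -/
abbrev Adj (par : ℕ → ℕ) (a b : ℕ) : Prop := (b ≠ 0 ∧ par b = a) ∨ (a ≠ 0 ∧ par a = b)

theorem far {a b : ℕ} (h : a ≠ b ∧ ¬ Adj par a b) :
    ca (tmN par sp) a b = 0 ∧ ca (tmN par sp) b a = 0 :=
  ca_zero h.1 (fun e => h.2 (Or.inl e)) (fun e => h.2 (Or.inr e))

theorem path (t : ℕ → ℕ) (k : ℕ) (h0 : t 0 = s) (h1 : ∀ j, j < k → t (j + 1) ≠ s)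
    (h2 : ∀ j, j < k → t j ≠ t (j + 1) ∧ Adj par (t j) (t (j + 1)) ∧ max (t j) (t (j + 1)) ≠ sp)
    (h3 : ∀ i j, i < j → j < k → t i ≠ t (j + 1) ∧ ¬ Adj par (t i) (t (j + 1))) :
    Path (ca (tmN par sp)) s t k :=
  ⟨h0, h1, fun j hj => ca_three (h2 j hj).1 (h2 j hj).2.1 (h2 j hj).2.2,
    fun i j hi hj => far (h3 i j hi hj)⟩

theorem bond' (hΓ : ∀ σ ∈ Γ, σ (om s) none = 0 ∨ σ (om s) none = 1)
    (hR : ∀ i, i < n → R (ca_self (tmN par sp)) s i ∈ Γ)
    (t : ℕ → ℕ) (k x : ℕ) (h0 : t 0 = s) (h1 : ∀ j, j < k → t (j + 1) ≠ s)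
    (h2 : ∀ j, j < k → t j ≠ t (j + 1) ∧ Adj par (t j) (t (j + 1)) ∧ max (t j) (t (j + 1)) ≠ sp)
    (h3 : ∀ i j, i < j → j < k → t i ≠ t (j + 1) ∧ ¬ Adj par (t i) (t (j + 1)))
    (h4 : ∀ j, j ≤ k → t j < n) (h5 : x ≠ s ∧ x < n)
    (h6 : ∀ i, i < k → t i ≠ x ∧ ¬ Adj par (t i) x)
    (h7 : t k ≠ x ∧ Adj par (t k) x ∧ max (t k) x = sp) : False :=
  bond _ hΓ (path t k h0 h1 h2 h3) (fun j hj => hR _ (h4 j hj)) h5.1 (hR _ h5.2)
    (fun i hi => far (h6 i hi)) (ca_four h7.1 h7.2.1 h7.2.2)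

theorem branch' (hΓ : ∀ σ ∈ Γ, σ (om s) none = 0 ∨ σ (om s) none = 1)
    (hR : ∀ i, i < n → R (ca_self (tmN par sp)) s i ∈ Γ)
    (t : ℕ → ℕ) (k x y : ℕ) (h0 : t 0 = s) (h1 : ∀ j, j < k → t (j + 1) ≠ s)
    (h2 : ∀ j, j < k → t j ≠ t (j + 1) ∧ Adj par (t j) (t (j + 1)) ∧ max (t j) (t (j + 1)) ≠ sp)
    (h3 : ∀ i j, i < j → j < k → t i ≠ t (j + 1) ∧ ¬ Adj par (t i) (t (j + 1)))
    (h4 : ∀ j, j ≤ k → t j < n) (h5 : x ≠ s ∧ x < n ∧ y ≠ s ∧ y < n)
    (h6 : ∀ i, i < k → t i ≠ x ∧ ¬ Adj par (t i) x)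
    (h6' : ∀ i, i < k → t i ≠ y ∧ ¬ Adj par (t i) y) (hxy : x ≠ y ∧ ¬ Adj par x y)
    (h7 : t k ≠ x ∧ Adj par (t k) x) (h7' : t k ≠ y ∧ Adj par (t k) y) : False :=
  branch _ hΓ (path t k h0 h1 h2 h3) (fun j hj => hR _ (h4 j hj)) h5.1 h5.2.2.1 (hR _ h5.2.1)
    (hR _ h5.2.2.2) (fun i hi => far (h6 i hi)) (fun i hi => far (h6' i hi)) (far hxy).1
    (ca_adj h7.1 h7.2) (ca_adj h7'.1 h7'.2)

end Types

/-- The side conditions. -/
local macro "ck_side" : tactic =>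
  `(tactic| (intros; (try dsimp only [Adj, parA, parD, parE, id_eq]) <;>
             first | omega | (split_ifs <;> omega) | decide))

section Types2

variable {n s : ℕ} {sp : ℕ} {Γ : Subgroup (Perm V)}

theorem typeA (hs : s < n) (hΓ : ∀ σ ∈ Γ, σ (om s) none = 0 ∨ σ (om s) none = 1)
    (hR : ∀ i, i < n → R (ca_self (tmN parA sp)) s i ∈ Γ) : s = 0 ∨ s + 1 = n := by
  by_contra hn
  refine branch' hΓ hR (fun _ => s) 0 (s - 1) (s + 1) ?_ ?_ ?_ ?_ ?_ ?_ ?_ ?_ ?_ ?_ ?_ <;> ck_side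

theorem typeC (h3 : 3 ≤ n) (hs : s < n) (hΓ : ∀ σ ∈ Γ, σ (om s) none = 0 ∨ σ (om s) none = 1)
    (hR : ∀ i, i < n → R (ca_self (tmN parA (n - 1))) s i ∈ Γ) : False := by
  rcases typeA hs hΓ hR with h | h
  · refine bond' hΓ hR id (n - 2) (n - 1) ?_ ?_ ?_ ?_ ?_ ?_ ?_ ?_ <;> ck_side
  · refine bond' hΓ hR (fun _ => s) 0 (n - 2) ?_ ?_ ?_ ?_ ?_ ?_ ?_ ?_ <;> ck_side

theorem typeF (hs : s < 4) (hΓ : ∀ σ ∈ Γ, σ (om s) none = 0 ∨ σ (om s) none = 1)
    (hR : ∀ i, i < 4 → R (ca_self (tmN parA 2)) s i ∈ Γ) : False := by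
  rcases typeA hs hΓ hR with h | h
  · refine bond' hΓ hR id 1 2 ?_ ?_ ?_ ?_ ?_ ?_ ?_ ?_ <;> ck_side
  · refine bond' hΓ hR (fun j => 3 - j) 1 1 ?_ ?_ ?_ ?_ ?_ ?_ ?_ ?_ <;> ck_side

theorem typeD (h4 : 4 ≤ n) (hs : s < n) (hΓ : ∀ σ ∈ Γ, σ (om s) none = 0 ∨ σ (om s) none = 1)
    (hR : ∀ i, i < n → R (ca_self (tmN (parD n) 0)) s i ∈ Γ) : False := by
  by_cases h0 : s = 0
  · refine branch' hΓ hR id (n - 3) (n - 2) (n - 1) ?_ ?_ ?_ ?_ ?_ ?_ ?_ ?_ ?_ ?_ ?_ <;> ck_side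
  by_cases h1 : s = n - 1
  · refine branch' hΓ hR (fun j => n - 1 - 2 * j) 1 (n - 2) (n - 4)
      ?_ ?_ ?_ ?_ ?_ ?_ ?_ ?_ ?_ ?_ ?_ <;> ck_side
  by_cases h2 : s = n - 2
  · refine branch' hΓ hR (fun j => n - 2 - j) 1 (n - 1) (n - 4)
      ?_ ?_ ?_ ?_ ?_ ?_ ?_ ?_ ?_ ?_ ?_ <;> ck_side
  refine branch' hΓ hR (fun _ => s) 0 (s - 1) (s + 1) ?_ ?_ ?_ ?_ ?_ ?_ ?_ ?_ ?_ ?_ ?_ <;> ck_side

theorem typeE (h6 : n = 6 ∨ n = 7 ∨ n = 8) (hs : s < n) (hΓ : ∀ σ ∈ Γ, σ (om s) none = 0 ∨ σ (om s) none = 1)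
    (hR : ∀ i, i < n → R (ca_self (tmN (parE n) 0)) s i ∈ Γ) : False := by
  by_cases h0 : s = 0
  · refine branch' hΓ hR id 2 3 (n - 1) ?_ ?_ ?_ ?_ ?_ ?_ ?_ ?_ ?_ ?_ ?_ <;> ck_side
  by_cases h1 : s = n - 1
  · rcases h6 with rfl | rfl | rfl
    · refine branch' hΓ hR (fun j => 5 - 3 * j) 1 1 3 ?_ ?_ ?_ ?_ ?_ ?_ ?_ ?_ ?_ ?_ ?_ <;> ck_side
    · refine branch' hΓ hR (fun j => 6 - 4 * j) 1 1 3 ?_ ?_ ?_ ?_ ?_ ?_ ?_ ?_ ?_ ?_ ?_ <;> ck_side
    · refine branch' hΓ hR (fun j => 7 - 5 * j) 1 1 3 ?_ ?_ ?_ ?_ ?_ ?_ ?_ ?_ ?_ ?_ ?_ <;> ck_side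
  by_cases h2 : s = n - 2
  · refine branch' hΓ hR (fun j => n - 2 - j) (n - 4) (n - 1) 1
      ?_ ?_ ?_ ?_ ?_ ?_ ?_ ?_ ?_ ?_ ?_ <;> ck_side
  refine branch' hΓ hR (fun _ => s) 0 (s - 1) (s + 1) ?_ ?_ ?_ ?_ ?_ ?_ ?_ ?_ ?_ ?_ ?_ <;> ck_side

end Types2

theorem rank2 {G : Type} [Group G] {P : BNPair G} {H : Subgroup G} (hT : Two H) (hB : P.B ≤ H)
    (i j : P.S) (hij : ∀ b, b = i ∨ b = j) (h4 : 4 ≤ orderOf ((BN.gens P).s i * (BN.gens P).s j)) :
    False := by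
  obtain ⟨s, -, hW⟩ := core hT hB
  have hne : i ≠ j := by
    rintro rfl
    rw [(BN.gens P).s_mul_s, orderOf_one] at h4
    omega
  wlog hs : s = i generalizing i j
  · refine this j i (fun b => (hij b).symm) ?_ hne.symm ((hij s).resolve_left hs)
    rw [← orderOf_inv]
    simpa using h4
  subst hs
  have hJ : ∀ u ∈ BN.WJ P {b | b ≠ s}, u = 1 ∨ u = (BN.gens P).s j := by
    intro u hu
    obtain ⟨l, hl, rfl⟩ := (BN.gens P).mem_closure_iff.1 hu
    clear hu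
    induction l with
    | nil => simp
    | cons b l ih =>
      obtain rfl : b = j := (hij b).resolve_left (hl b (by simp))
      rcases ih fun i hi => hl i (List.mem_cons_of_mem _ hi) with h | h
      · right; simp [h]
      · left; simp [h, (BN.gens P).s_mul_s]
  have h1 := BN.gens_s_ne_one s
  have h2 := BN.gens_s_ne_one j
  have e1 := (BN.gens P).s_mul_s s
  have e2 := (BN.gens P).s_mul_s j
  generalize (BN.gens P).s s = a at *
  generalize (BN.gens P).s j = b at *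
  have hp : ∀ k, 0 < k → k < 4 → (a * b) ^ k ≠ 1 := fun k h0 hk =>
    pow_ne_one_of_lt_orderOf h0.ne' (by omega)
  have ia : a⁻¹ = a := inv_eq_of_mul_eq_one_right e1
  have ib : b⁻¹ = b := inv_eq_of_mul_eq_one_right e2
  rcases hW (a * b * a * b) with h | ⟨u, hu, v, hv, h⟩
  · rcases hJ _ h with h | h
    · exact hp 2 (by omega) (by omega) (by rw [← h, pow_two, mul_assoc (a * b)])
    · apply h2
      have h3 : a * b * a = 1 := by simpa using h
      calc b = a⁻¹ * (a * b * a) * a⁻¹ := by group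
        _ = 1 := by rw [h3, mul_one, ia, e1]
  · rcases hJ _ hu with hu | hu <;> rcases hJ _ hv with hv | hv <;> rw [hu, hv] at h
    · apply h1
      calc a = b⁻¹ * a⁻¹ * (a * b * a * b) * b⁻¹ := by group
        _ = 1 := by rw [h]; simp [ib, e2]
    · apply hp 1 (by omega) (by omega)
      have h3 : a * b * (a * b) = 1 * (a * b) := by simpa [mul_assoc] using h
      simpa using mul_right_cancel h3
    · apply hp 3 (by omega) (by omega)
      calc (a * b) ^ 3 = (a * b * a * b) * (a * b) := by simp [pow_succ, mul_assoc]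
        _ = b * (a * a) * b := by rw [h]; simp [mul_assoc]
        _ = 1 := by rw [e1, mul_one, e2]
    · apply h1
      have h3 : a * (b * a * b) = 1 * (b * a * b) := by simpa [mul_assoc] using h
      exact mul_right_cancel h3

/-- **DC2** -/
theorem dc2 : Dc2Stmt := by
  refine ⟨fun S H hT hB => ?_, fun S par sp hty hm H hT hB => ?_⟩
  · by_contra h4
    refine rank2 hT hB (S.e 0) (S.e 1) (fun b => ?_) (not_lt.1 h4)
    obtain ⟨b, rfl⟩ := S.e.surjective b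
    fin_cases b <;> simp
  · obtain ⟨s, -, Γ, hΓ, hR⟩ := exists_rep S hm hT hB
    rcases hty with ⟨⟨-, h⟩ | ⟨h4, rfl⟩ | ⟨h6, rfl⟩, rfl⟩ | ⟨h3, rfl, rfl⟩ | ⟨rfl, rfl, rfl⟩
    · exact ⟨h, rfl⟩
    · exact (typeD h4 s.2 hΓ hR).elim
    · exact (typeE h6 s.2 hΓ hR).elim
    · exact (typeC h3 s.2 hΓ hR).elim
    · exact (typeF s.2 hΓ hR).elim

theorem ind_s (b1 : Bas1Stmt) {G : Type} [Group G] [Finite G] [IsSimpleGroup G] {p n : ℕ}
    [Fact p.Prime] (S : Sys G p n) (i : Fin n) : BN.ind S.bn (S.w i) = S.q i := by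
  obtain ⟨-, -, -, -, -, -, -, -, -, -, -, -, -, h1, -⟩ := b1 S
  have hX : S.X i ≤ S.bn.B := le_trans (le_trans le_sup_left (S.X_sup i).le) (S.sp.U_le _)
  symm
  refine Nat.card_congr (Equiv.ofBijective (fun y : S.X i => ⟨((y * S.s i : G) : G ⧸ S.bn.B), ?_⟩)
    ⟨?_, ?_⟩)
  · rw [BN.wdist_mk, inv_one, one_mul, BN.bruhat_eq_iff]
    exact BN.mul_mem_cell_left (hX y.2) (BN.s_mem_cell _)
  · intro y y' h
    have h2 := QuotientGroup.eq.1 (Subtype.ext_iff.1 h)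
    have h3 := h1 i ((y : G)⁻¹ * y') (mul_mem (inv_mem y.2) y'.2) (by simpa [mul_assoc] using h2)
    exact Subtype.ext (inv_mul_eq_one.1 h3)
  · rintro ⟨y, hy⟩
    obtain ⟨g, rfl⟩ := QuotientGroup.mk_surjective y
    have hy' := hy
    rw [BN.wdist_mk, inv_one, one_mul, BN.bruhat_eq_iff] at hy'
    obtain ⟨y, h2, h3⟩ := S.cell i g hy'
    exact ⟨⟨y, h2⟩, Subtype.ext (QuotientGroup.eq.2 h3).symm⟩

theorem comm_of_two {W : Type*} [Group W] {a b : W} (ha : a * a = 1) (hb : b * b = 1)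
    (h : orderOf (a * b) = 2) : a * b = b * a := by
  have h2 : a * b * (a * b) = 1 := by rw [← pow_two, ← h, pow_orderOf_eq_one]
  calc a * b = (a * b)⁻¹ := (inv_eq_of_mul_eq_one_right h2).symm
    _ = b * a := by
      rw [mul_inv_rev, inv_eq_of_mul_eq_one_right ha, inv_eq_of_mul_eq_one_right hb]

theorem tmN_two {par : ℕ → ℕ} {sp a b : ℕ} (h : a ≠ b) (h1 : ¬ Adj par a b) :
    tmN par sp a b = 2 := by rw [tmN, if_neg h, if_neg h1]

theorem tmN_three {par : ℕ → ℕ} {sp a b : ℕ} (h : a ≠ b) (h1 : Adj par a b) (h2 : max a b ≠ sp) :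
    tmN par sp a b = 3 := by rw [tmN, if_neg h, if_pos h1, if_neg h2]

/-- **IDX** -/
theorem idx (b1 : Bas1Stmt) : IdxStmt := by
  intro G _ _ _ p n _ S hm q hq H hT hB
  obtain ⟨s, hH, Γ, hΓ, hR⟩ := exists_rep S hm hT hB
  obtain ⟨f, hf, f0, f1, f2, f3, f4⟩ : ∃ f : ℕ → ℕ, (∀ i, i < n → f i < n) ∧ f 0 = s ∧
      (∀ b, b < n → ∃ i, i < n ∧ f i = b) ∧ (∀ i j, i < n → j < n → f i = f j → i = j) ∧
      (∀ i j, i + 2 ≤ j → j < n → tmN parA 0 (f i) (f j) = 2) ∧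
      ∀ i, i + 1 < n → tmN parA 0 (f i) (f (i + 1)) = 3 := by
    rcases typeA s.2 hΓ hR with h | h
    · refine ⟨id, fun _ h => h, h.symm, fun b hb => ⟨b, hb, rfl⟩, fun _ _ _ _ h => h, ?_, ?_⟩
      · intros; apply tmN_two <;> ck_side
      · intros; apply tmN_three <;> ck_side
    · refine ⟨fun i => n - 1 - i, fun _ _ => by dsimp only; omega, by dsimp only; omega,
        fun b hb => ⟨n - 1 - b, by omega, by dsimp only; omega⟩,
        fun _ _ _ _ h => by dsimp only at h; omega, ?_, ?_⟩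
      · intros; apply tmN_two <;> ck_side
      · intros; apply tmN_three <;> ck_side
  let t : ℕ → S.bn.S := fun i => if h : i < n then S.e ⟨f i, hf i h⟩ else S.e s
  have ht : ∀ i (h : i < n), t i = S.e ⟨f i, hf i h⟩ := fun i h => dif_pos h
  have hn : 0 < n := s.pos
  have ht0 : t 0 = S.e s := by rw [ht 0 hn]; congr 1; exact Fin.ext f0
  have hc : Chain (BN.gens S.bn) t n := by
    refine ⟨BN.exchange _, BN.gens_s_injective, fun b => ?_, fun i j hi hj he => ?_,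
      fun i j hi hj => ?_, fun i hi => ?_⟩
    · obtain ⟨b, rfl⟩ := S.e.surjective b
      obtain ⟨i, hi, he⟩ := f1 b b.2
      exact ⟨i, hi, by rw [ht i hi]; congr 1; exact Fin.ext he⟩
    · rw [ht i hi, ht j hj] at he
      exact f2 i j hi hj (Fin.ext_iff.1 (S.e.injective he))
    · refine comm_of_two ((BN.gens _).s_mul_s _) ((BN.gens _).s_mul_s _) ?_
      rw [ht i (by omega), ht j hj]
      exact (hm _ _).trans ((tm_eq _ _ _ _ _).trans (f3 i j hi hj))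
    · rw [ht i (by omega), ht _ hi]
      exact (hm _ _).trans ((tm_eq _ _ _ _ _).trans (f4 i hi))
  have hind : ∀ b, BN.ind S.bn ((BN.gens S.bn).s b) = q := fun b => by
    obtain ⟨b, rfl⟩ := S.e.surjective b
    rw [← hq b]
    exact ind_s b1 S b
  have hq1 : 1 ≤ q := by
    rw [← hq s]
    exact Nat.card_pos
  rw [hH, ← ht0, index_eq hc hind]
  exact geom_sum_mul_of_one_le hq1 _

end Cfsg.Agent.H35.CkDc
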