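import Cfsg.Agent.H35.InvGen

/-!
# Normalised Hecke families, a rationality lemma, and rank-two (dihedral) generating families
-/

set_option autoImplicit false

namespace Cfsg.Agent.H35

namespace InvGen

variable {B W : Type*} [Group W] {X : InvGen B W}

/-- A family `A w` in an algebra satisfying the normalised Hecke relations. -/
structure IsHeckeFam (X : InvGen B W) (α : B → ℂ) {R : Type*} [Ring R] [Algebra ℂ R]
    (A : W → R) : Prop where
  one : A 1 = 1
  up : ∀ i w, X.len w < X.len (X.s i * w) → A (X.s i) * A w = A (X.s i * w)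
  sq : ∀ i, A (X.s i) * A (X.s i) = 1 + α i • A (X.s i)

variable {α : B → ℂ}

theorem IsHeckeFam.down {R : Type*} [Ring R] [Algebra ℂ R] {A : W → R} (hA : X.IsHeckeFam α A)
    {i : B} {w : W} (h : X.len (X.s i * w) < X.len w) :
    A (X.s i) * A w = A (X.s i * w) + α i • A w := by
  have h1 := hA.up i (X.s i * w) (by simpa using h)
  rw [s_mul_s_cancel_left] at h1
  rw [← h1, ← mul_assoc, hA.sq, add_mul, one_mul, smul_mul_assoc]

theorem IsHeckeFam.prod {R R' : Type*} [Ring R] [Algebra ℂ R] [Ring R'] [Algebra ℂ R']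
    {A : W → R} {A' : W → R'} (hA : X.IsHeckeFam α A) (hA' : X.IsHeckeFam α A') :
    X.IsHeckeFam α (fun w => (A w, A' w)) where
  one := by simp [hA.one, hA'.one]
  up i w h := by simp [hA.up i w h, hA'.up i w h]
  sq i := by simp [hA.sq, hA'.sq, Prod.ext_iff]

theorem IsHeckeFam.mul_mem_span (hX : X.Exchange) {R : Type*} [Ring R] [Algebra ℂ R] {A : W → R}
    (hA : X.IsHeckeFam α A) {x y : R} (hx : x ∈ Submodule.span ℂ (Set.range A))
    (hy : y ∈ Submodule.span ℂ (Set.range A)) : x * y ∈ Submodule.span ℂ (Set.range A) := by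
  have h1 : ∀ i, ∀ y ∈ Submodule.span ℂ (Set.range A),
      A (X.s i) * y ∈ Submodule.span ℂ (Set.range A) := by
    intro i y hy
    induction hy using Submodule.span_induction with
    | mem y hy =>
      obtain ⟨w, rfl⟩ := hy
      rcases hX.len_s_mul i w with h | h
      · rw [hA.up i w (by omega)]
        exact Submodule.subset_span ⟨_, rfl⟩
      · rw [hA.down (by omega)]
        exact add_mem (Submodule.subset_span ⟨_, rfl⟩)
          (Submodule.smul_mem _ _ (Submodule.subset_span ⟨_, rfl⟩))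
    | zero => simp
    | add a b _ _ ha hb => rw [mul_add]; exact add_mem ha hb
    | smul c a _ ha => rw [mul_smul_comm]; exact Submodule.smul_mem _ _ ha
  have h2 : ∀ w, ∀ y ∈ Submodule.span ℂ (Set.range A),
      A w * y ∈ Submodule.span ℂ (Set.range A) := by
    intro w
    induction w using X.induction_left with
    | h1 => intro y hy; rwa [hA.one, one_mul]
    | hs i w hw ih =>
      intro y hy
      rw [← hA.up i w (by omega), mul_assoc]
      exact h1 i _ (ih y hy)
  induction hx using Submodule.span_induction with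
  | mem x hx =>
    obtain ⟨w, rfl⟩ := hx
    exact h2 w y hy
  | zero => simp
  | add a b _ _ ha hb => rw [add_mul]; exact add_mem ha hb
  | smul c a _ ha => rw [smul_mul_assoc]; exact Submodule.smul_mem _ _ ha

theorem Exchange.exists_heckeFam (hX : X.Exchange) {R : Type*} [Ring R] [Algebra ℂ R] (f : B → R)
    (hf : ∀ i j : B, 0 < orderOf (X.s i * X.s j) →
      ((altw i j (orderOf (X.s i * X.s j))).map f).prod =
        ((altw j i (orderOf (X.s i * X.s j))).map f).prod)
    (hsq : ∀ i, f i * f i = 1 + α i • f i) :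
    ∃ ρ : W → R, X.IsHeckeFam α ρ ∧ ∀ l, X.IsRed l → ρ (X.wp l) = (l.map f).prod := by
  choose red hred hwp using X.exists_isRed
  have key : ∀ l, X.IsRed l → ((red (X.wp l)).map f).prod = (l.map f).prod := fun l hl =>
    hX.matsumoto f hf (hred _) hl (hwp _)
  have hs : ∀ i, ((red (X.s i)).map f).prod = f i := fun i => by
    have := key [i] (by unfold IsRed; simpa using hX.len_s i)
    simpa using this
  refine ⟨fun w => ((red w).map f).prod, ⟨?_, ?_, ?_⟩, key⟩
  · simpa using key [] X.isRed_nil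
  · intro i w h
    have := key (i :: red w) ((hred w).cons (by rwa [hwp]))
    rw [wp_cons, hwp] at this
    rw [this, hs]; simp
  · intro i
    simp only [hs, hsq]

/-- An idempotent complex matrix has a natural number as trace. -/
theorem exists_nat_trace_of_idempotent {Ω : Type*} [Fintype Ω] [DecidableEq Ω]
    {E : Matrix Ω Ω ℂ} (hE : E * E = E) : ∃ r : ℕ, E.trace = r := by
  have h1 : IsIdempotentElem (Matrix.toLin' E) := by
    unfold IsIdempotentElem
    rw [Module.End.mul_eq_comp, ← Matrix.toLin'_mul, hE]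
  have h2 := (LinearMap.IsIdempotentElem.isProj_range _ h1).trace
  rw [Matrix.trace_toLin'_eq] at h2
  exact ⟨_, h2⟩

/-- The Schur element of an irreducible two-dimensional representation of a Hecke algebra
realised on a finite set with the canonical trace is rational. -/
theorem IsHeckeFam.exists_rat [Fintype W] [DecidableEq W] (hX : X.Exchange) {Ω : Type*} [Fintype Ω]
    [DecidableEq Ω] [Nonempty Ω] {A : W → Matrix Ω Ω ℂ} {ρ : W → Matrix (Fin 2) (Fin 2) ℂ}
    (hA : X.IsHeckeFam α A) (hρ : X.IsHeckeFam α ρ)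
    (htr : ∀ w v, (A w * A v).trace = if w * v = 1 then (Fintype.card Ω : ℂ) else 0)
    (hirr : ∀ Z : Matrix (Fin 2) (Fin 2) ℂ, (∀ i, Z * ρ (X.s i) = ρ (X.s i) * Z) →
      ∃ c : ℂ, Z = c • (1 : Matrix (Fin 2) (Fin 2) ℂ)) :
    ∃ q : ℚ, ∑ w, (ρ w⁻¹).trace * (ρ w).trace = q := by
  set n : ℂ := (Fintype.card Ω : ℂ) with hn
  have hn0 : n ≠ 0 := by rw [hn]; exact_mod_cast Fintype.card_ne_zero
  have hK := hA.prod hρ
  set K := Submodule.span ℂ (Set.range fun w => (A w, ρ w)) with hKdef
  have hmul : ∀ {x y}, x ∈ K → y ∈ K → x * y ∈ K := fun hx hy => hK.mul_mem_span hX hx hy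
  have hgen : ∀ w, (A w, ρ w) ∈ K := fun w => Submodule.subset_span ⟨w, rfl⟩
  set z : Matrix Ω Ω ℂ × Matrix (Fin 2) (Fin 2) ℂ := ∑ w, (ρ w⁻¹).trace • (A w, ρ w) with hz
  have hzK : z ∈ K := Submodule.sum_mem _ fun w _ => Submodule.smul_mem _ _ (hgen w)
  have hz1 : z.1 = ∑ w, (ρ w⁻¹).trace • A w := by simp [hz, Prod.fst_sum]
  have hz2 : z.2 = ∑ w, (ρ w⁻¹).trace • ρ w := by simp [hz, Prod.snd_sum]
  have hsum : ∀ (c : W → ℂ) (v : W), ((∑ w, c w • A w) * A v).trace = c v⁻¹ * n := by
    intro c v
    rw [Finset.sum_mul, Matrix.trace_sum, Finset.sum_eq_single v⁻¹]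
    · rw [smul_mul_assoc, Matrix.trace_smul, htr]; simp
    · intro w _ hw
      rw [smul_mul_assoc, Matrix.trace_smul, htr, if_neg, smul_zero]
      intro h
      exact hw (eq_inv_of_mul_eq_one_left h)
    · simp
  have hkey : ∀ k ∈ K, (z.1 * k.1).trace = n * k.2.trace := by
    intro k hk
    induction hk using Submodule.span_induction with
    | mem k hk =>
      obtain ⟨v, rfl⟩ := hk
      rw [hz1, hsum]; simp [mul_comm]
    | zero => simp
    | add a b _ _ ha hb => simp [mul_add, ha, hb]
    | smul c a _ ha => simp [ha]; ring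
  have hnd : ∀ k ∈ K, (∀ k' ∈ K, (k.1 * k'.1).trace = 0) → k = 0 := by
    intro k hk h
    obtain ⟨c, rfl⟩ := (Submodule.mem_span_range_iff_exists_fun ℂ).1 hk
    have hc : ∀ v, c v = 0 := by
      intro v
      have := h _ (hgen v⁻¹)
      rw [Prod.fst_sum] at this
      simp only [Prod.smul_fst] at this
      rw [hsum, inv_inv] at this
      exact (mul_eq_zero.1 this).resolve_right hn0
    simp [hc]
  have hcentral : ∀ k ∈ K, z * k = k * z := by
    intro k hk
    rw [← sub_eq_zero]
    refine hnd _ (sub_mem (hmul hzK hk) (hmul hk hzK)) fun k' hk' => ?_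
    have e1 := hkey _ (hmul hk hk')
    have e2 := hkey _ (hmul hk' hk)
    simp only [Prod.fst_mul, Prod.snd_mul, Prod.fst_sub] at e1 e2 ⊢
    rw [sub_mul, Matrix.trace_sub, mul_assoc, e1, mul_assoc, Matrix.trace_mul_comm k.1, mul_assoc,
      e2, Matrix.trace_mul_comm k.2, sub_self]
  obtain ⟨c, hc⟩ := hirr z.2 fun i => congrArg Prod.snd (hcentral _ (hgen (X.s i)))
  have hzz : z * z - c • z = 0 := by
    refine hnd _ (sub_mem (hmul hzK hzK) (Submodule.smul_mem _ _ hzK)) fun k hk => ?_
    have e1 := hkey _ (hmul hzK hk)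
    have e2 := hkey _ hk
    simp only [Prod.fst_mul, Prod.snd_mul, Prod.fst_sub, Prod.smul_fst] at e1 e2 ⊢
    rw [sub_mul, Matrix.trace_sub, mul_assoc, e1, smul_mul_assoc, Matrix.trace_smul, e2, hc]
    simp; ring
  have hzz1 : z.1 * z.1 = c • z.1 := by
    have := congrArg Prod.fst hzz
    simpa [sub_eq_zero] using this
  have htr1 : z.1.trace = n * 2 := by
    have := hkey _ (hgen 1)
    simpa [hA.one, hρ.one] using this
  have hc0 : c ≠ 0 := by
    rintro rfl
    have hnil : IsNilpotent z.1 := ⟨2, by rw [pow_two, hzz1, zero_smul]⟩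
    have := (Matrix.isNilpotent_trace_of_isNilpotent hnil).eq_zero
    rw [htr1] at this
    exact hn0 (by simpa using this)
  obtain ⟨r, hr⟩ := exists_nat_trace_of_idempotent (E := c⁻¹ • z.1) (by
    rw [smul_mul_assoc, mul_smul_comm, hzz1, smul_smul, smul_smul]
    congr 1
    field_simp)
  rw [Matrix.trace_smul, htr1, smul_eq_mul] at hr
  have hr0 : (r : ℂ) ≠ 0 := by
    rw [← hr]
    exact mul_ne_zero (inv_ne_zero hc0) (mul_ne_zero hn0 two_ne_zero)
  refine ⟨4 * Fintype.card Ω / r, ?_⟩
  have e : z.2.trace = ∑ w, (ρ w⁻¹).trace * (ρ w).trace := by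
    rw [hz2, Matrix.trace_sum]; simp
  rw [← e, hc]
  push_cast
  rw [← hn, ← hr]
  simp
  field_simp
  norm_num

/-! ### Rank two -/

theorem Exchange.len_wp_mod_two (hX : X.Exchange) (l : List B) :
    X.len (X.wp l) % 2 = l.length % 2 := by
  induction l with
  | nil => simp
  | cons i l ih =>
    rw [wp_cons, List.length_cons]
    rcases hX.len_s_mul i (X.wp l) with h | h <;> omega

theorem not_isRed_cons_cons (i : B) (l : List B) : ¬ X.IsRed (i :: i :: l) := by
  intro h
  have := h.left (l := [i, i])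
  unfold IsRed at this
  simp [X.s_mul_s] at this

section RankTwo

variable {i j : B}

theorem eq_altw_of_isRed (hB : ∀ k, k = i ∨ k = j) {l : List B} (hl : X.IsRed l) :
    l = altw i j l.length ∨ l = altw j i l.length := by
  induction l with
  | nil => left; rfl
  | cons a l ih =>
    rw [List.length_cons, altw_succ, altw_succ]
    cases l with
    | nil => rcases hB a with rfl | rfl <;> simp [altw]
    | cons b l =>
      have hab : a ≠ b := by rintro rfl; exact not_isRed_cons_cons _ _ hl
      rcases ih hl.tail with h | h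
      · right
        rw [← h]
        rw [List.length_cons, altw_succ, List.cons.injEq] at h
        rcases hB a with rfl | rfl
        · exact absurd h.1.symm hab
        · rfl
      · left
        rw [← h]
        rw [List.length_cons, altw_succ, List.cons.injEq] at h
        rcases hB a with rfl | rfl
        · rfl
        · exact absurd h.1.symm hab

theorem wp_altw_even (i j : B) (k : ℕ) : X.wp (altw i j (2 * k)) = (X.s i * X.s j) ^ k :=
  prod_altw_two_mul X.s i j k

theorem wp_altw_odd (i j : B) (k : ℕ) :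
    X.wp (altw i j (2 * k + 1)) = (X.s i * X.s j) ^ k * X.s i :=
  prod_altw_two_mul_add_one X.s i j k

theorem wp_altw_even' (i j : B) (k : ℕ) : X.wp (altw j i (2 * k)) = ((X.s i * X.s j) ^ k)⁻¹ := by
  rw [wp_altw_even, ← inv_pow]; simp

theorem wp_altw_odd' (i j : B) (k : ℕ) :
    X.wp (altw j i (2 * k + 1)) = ((X.s i * X.s j) ^ (k + 1))⁻¹ * X.s i := by
  rw [wp_altw_odd, ← inv_pow, pow_succ]; simp [mul_assoc, X.s_mul_s]

theorem Exchange.isRed_altw (hX : X.Exchange) (hB : ∀ k, k = i ∨ k = j) {n : ℕ}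
    (hn : n ≤ orderOf (X.s i * X.s j)) : X.IsRed (altw i j n) := by
  obtain ⟨l, hl, hw⟩ := X.exists_isRed (X.wp (altw i j n))
  have hle := X.len_wp_le (altw i j n)
  have hpar := hX.len_wp_mod_two (altw i j n)
  have hl' := hl
  unfold IsRed at hl' ⊢
  rw [hw] at hl'
  rw [length_altw] at hle hpar ⊢
  by_contra hne
  rw [hl'] at hle hpar hne
  generalize hn' : l.length = n' at *
  have hinj := pow_injOn_Iio_orderOf (x := X.s i * X.s j)
  rcases eq_altw_of_isRed hB hl with h | h <;> rw [h, hn'] at hw <;>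
    rcases Nat.even_or_odd' n with ⟨k, rfl | rfl⟩
  · obtain ⟨k', rfl⟩ : ∃ k', n' = 2 * k' := ⟨n' / 2, by omega⟩
    rw [wp_altw_even, wp_altw_even] at hw
    have := hinj (show k' < _ by omega) (show k < _ by omega) hw
    omega
  · obtain ⟨k', rfl⟩ : ∃ k', n' = 2 * k' + 1 := ⟨n' / 2, by omega⟩
    rw [wp_altw_odd, wp_altw_odd, mul_left_inj] at hw
    have := hinj (show k' < _ by omega) (show k < _ by omega) hw
    omega
  · obtain ⟨k', rfl⟩ : ∃ k', n' = 2 * k' := ⟨n' / 2, by omega⟩
    rw [wp_altw_even', wp_altw_even, inv_eq_iff_mul_eq_one, ← pow_add] at hw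
    exact pow_ne_one_of_lt_orderOf (by omega) (by omega) hw
  · obtain ⟨k', rfl⟩ : ∃ k', n' = 2 * k' + 1 := ⟨n' / 2, by omega⟩
    rw [wp_altw_odd', wp_altw_odd, mul_left_inj, inv_eq_iff_mul_eq_one, ← pow_add] at hw
    exact pow_ne_one_of_lt_orderOf (by omega) (by omega) hw

theorem orderOf_s_mul_s_comm (i j : B) : orderOf (X.s j * X.s i) = orderOf (X.s i * X.s j) := by
  rw [← orderOf_inv]; simp

theorem Exchange.isRed_altw' (hX : X.Exchange) (hB : ∀ k, k = i ∨ k = j) {n : ℕ}
    (hn : n ≤ orderOf (X.s i * X.s j)) : X.IsRed (altw j i n) :=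
  hX.isRed_altw (fun k => (hB k).symm) (by rwa [orderOf_s_mul_s_comm])

/-- Summation over a finite dihedral group. -/
theorem Exchange.sum_eq_rank_two [Fintype W] (hX : X.Exchange) (hB : ∀ k, k = i ∨ k = j)
    {M : Type*} [AddCommMonoid M] (F : W → M) :
    ∑ w, F w = ∑ k ∈ Finset.range (orderOf (X.s i * X.s j)), F ((X.s i * X.s j) ^ k) +
      ∑ k ∈ Finset.range (orderOf (X.s i * X.s j)), F ((X.s i * X.s j) ^ k * X.s i) := by
  classical
  set r := X.s i * X.s j with hr
  have hm : 0 < orderOf r := orderOf_pos r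
  have hinj := pow_injOn_Iio_orderOf (x := r)
  rw [← Finset.sum_image (s := Finset.range (orderOf r)) (g := fun k => r ^ k) (f := F),
    ← Finset.sum_image (s := Finset.range (orderOf r)) (g := fun k => r ^ k * X.s i) (f := F),
    ← Finset.sum_union]
  · congr 1
    symm
    rw [Finset.eq_univ_iff_forall]
    intro w
    have hz : ∀ x ∈ Subgroup.zpowers r, ∃ k < orderOf r, r ^ k = x := by
      intro x hx
      have := (mem_zpowers_iff_mem_range_orderOf (x := r) (y := x)).1 hx
      simpa using this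
    have key : w ∈ Subgroup.zpowers r ∨ w * X.s i ∈ Subgroup.zpowers r := by
      obtain ⟨l, hl, rfl⟩ := X.exists_isRed w
      rcases eq_altw_of_isRed hB hl with h | h <;> rw [h] <;>
        rcases Nat.even_or_odd' l.length with ⟨k, hk | hk⟩ <;> rw [hk]
      · left; rw [wp_altw_even]; exact pow_mem (Subgroup.mem_zpowers r) k
      · right; rw [wp_altw_odd, s_mul_s_cancel_right]; exact pow_mem (Subgroup.mem_zpowers r) k
      · left; rw [wp_altw_even']; exact inv_mem (pow_mem (Subgroup.mem_zpowers r) k)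
      · right
        rw [wp_altw_odd', s_mul_s_cancel_right]
        exact inv_mem (pow_mem (Subgroup.mem_zpowers r) _)
    rw [Finset.mem_union, Finset.mem_image, Finset.mem_image]
    rcases key with h | h
    · obtain ⟨k, hk, e⟩ := hz _ h
      exact Or.inl ⟨k, Finset.mem_range.2 hk, e⟩
    · obtain ⟨k, hk, e⟩ := hz _ h
      exact Or.inr ⟨k, Finset.mem_range.2 hk, by rw [e, s_mul_s_cancel_right]⟩
  · rw [Finset.disjoint_left]
    intro w h1 h2
    obtain ⟨k, -, rfl⟩ := Finset.mem_image.1 h1
    obtain ⟨k', -, e⟩ := Finset.mem_image.1 h2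
    have e1 := hX.len_wp_mod_two (altw i j (2 * k))
    have e2 := hX.len_wp_mod_two (altw i j (2 * k' + 1))
    rw [wp_altw_even, length_altw, ← hr] at e1
    rw [wp_altw_odd, length_altw, ← hr, e] at e2
    omega
  · intro a ha b hb h
    exact hinj (by simpa using ha) (by simpa using hb) (mul_right_cancel h)
  · intro a ha b hb h
    exact hinj (by simpa using ha) (by simpa using hb) h

theorem Exchange.card_rank_two [Finite W] (hX : X.Exchange) (hB : ∀ k, k = i ∨ k = j) :
    Nat.card W = 2 * orderOf (X.s i * X.s j) := by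
  have := Fintype.ofFinite W
  have h := hX.sum_eq_rank_two hB (fun _ => (1 : ℕ))
  simp only [Finset.sum_const, Finset.card_univ, smul_eq_mul, mul_one, Finset.card_range] at h
  rw [Nat.card_eq_fintype_card, h, two_mul]

end RankTwo

end InvGen

end Cfsg.Agent.H35
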