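import Cfsg.Agent.H35.L3Defs

/-! Calculus with the Steinberg relations of type `A₂` in characteristic two. -/

set_option autoImplicit false
set_option linter.unusedSectionVars false

namespace Cfsg.Agent.H35.L3

open Cfsg Cfsg.Agent.H63 Cfsg.Agent.H63.SL Subgroup Equiv
open scoped commutatorElement

universe u v

theorem fin3 : ∀ i j m k : Fin 3, i ≠ j → j ≠ m → i ≠ m → k = i ∨ k = j ∨ k = m := by decide

theorem third : ∀ i j : Fin 3, i ≠ j → ∃ m, j ≠ m ∧ i ≠ m := by decide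

theorem other : ∀ i : Fin 3, ∃ j k, i ≠ j ∧ j ≠ k ∧ i ≠ k := by decide

theorem h90 {F : Type*} [Field F] (two : (2 : F) = 0) {φ : F ≃+* F} (h1 : φ ≠ 1)
    (h2 : ∀ a, φ (φ a) = a) {κ s : F} (hs : κ * φ s = s) : ∃ e, s = e + κ * φ e := by
  obtain ⟨ω, hω⟩ : ∃ ω, φ ω ≠ ω := not_forall.1 fun h => h1 (RingEquiv.ext h)
  have t0 : ω + φ ω ≠ 0 := fun e => hω (by linear_combination e - ω * two)
  refine ⟨s * ω / (ω + φ ω), ?_⟩
  rw [map_div₀, map_mul, map_add, h2, add_comm (φ ω), mul_div_assoc', ← mul_assoc, hs, ← add_div,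
    ← mul_add, mul_div_assoc, div_self t0, mul_one]

/-- autotopisms of a field -/
theorem autotop {F : Type*} [Field F] [Finite F] (f1 f2 f3 : F → F)
    (a1 : ∀ a b, f1 (a + b) = f1 a + f1 b) (n1 : f1 1 ≠ 0) (n2 : f2 1 ≠ 0)
    (h : ∀ a b, f3 (a * b) = f1 a * f2 b) :
    ∃ (φ : F ≃+* F) (c1 c2 : Fˣ), (∀ a, f1 a = c1 * φ a) ∧ (∀ a, f2 a = c2 * φ a) ∧
      ∀ a, f3 a = c1 * c2 * φ a := by
  have e1 : ∀ a, f3 a = f1 a * f2 1 := fun a => by rw [← h, mul_one]
  have e2 : ∀ a, f3 a = f1 1 * f2 a := fun a => by rw [← h, one_mul]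
  have z : f1 0 = 0 := by simpa using a1 0 0
  let ψ : F →+* F :=
    { toFun := fun a => f1 a / f1 1
      map_one' := div_self n1
      map_zero' := by rw [z, zero_div]
      map_add' := fun a b => by rw [a1, add_div]
      map_mul' := fun a b => by
        have := h a b
        rw [e1] at this
        have h2 := (e1 b).symm.trans (e2 b)
        field_simp
        apply mul_right_cancel₀ n2
        linear_combination f1 1 * this - f1 a * h2 }
  refine ⟨RingEquiv.ofBijective ψ (Finite.injective_iff_bijective.1 ψ.injective), Units.mk0 _ n1,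
    Units.mk0 _ n2, fun a => ?_, fun a => ?_, fun a => ?_⟩
  · change _ = f1 1 * (f1 a / f1 1)
    field_simp
  · change _ = f2 1 * (f1 a / f1 1)
    have h2 := (e1 a).symm.trans (e2 a)
    field_simp
    linear_combination -h2
  · change _ = f1 1 * f2 1 * (f1 a / f1 1)
    rw [e1]
    field_simp

section Ring

variable {A : Type v} [CommRing A] {G : Type u} [Group G] {x : Fin 3 → Fin 3 → A → G}

theorem x_mem_X (i j : Fin 3) (a : A) : x i j a ∈ X3 x i j := subset_closure ⟨a, rfl⟩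

theorem x_mem_Row {i j : Fin 3} (e : i ≠ j) (a : A) : x i j a ∈ Row x i :=
  subset_closure ⟨j, e, a, rfl⟩

theorem x_mem_Col {i j : Fin 3} (e : i ≠ j) (a : A) : x i j a ∈ Col x j :=
  subset_closure ⟨i, e, a, rfl⟩

theorem x_mem_All {i j : Fin 3} (e : i ≠ j) (a : A) : x i j a ∈ All x :=
  subset_closure ⟨i, j, e, a, rfl⟩

theorem All_le {H : Subgroup G} (h : ∀ i j, i ≠ j → ∀ a, x i j a ∈ H) : All x ≤ H :=
  (closure_le _).2 (by rintro _ ⟨i, j, e, a, rfl⟩; exact h i j e a)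

theorem Row_le {H : Subgroup G} {i : Fin 3} (h : ∀ j, i ≠ j → ∀ a, x i j a ∈ H) : Row x i ≤ H :=
  (closure_le _).2 (by rintro _ ⟨j, e, a, rfl⟩; exact h j e a)

theorem Col_le {H : Subgroup G} {k : Fin 3} (h : ∀ i, i ≠ k → ∀ a, x i k a ∈ H) : Col x k ≤ H :=
  (closure_le _).2 (by rintro _ ⟨j, e, a, rfl⟩; exact h j e a)

theorem X_le {H : Subgroup G} {i j : Fin 3} (h : ∀ a, x i j a ∈ H) : X3 x i j ≤ H :=
  (closure_le _).2 (by rintro _ ⟨a, rfl⟩; exact h a)

theorem Y_le_All (i k : Fin 3) : Y3 x i k ≤ All x :=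
  sup_le (Row_le fun _ e a => x_mem_All e a) (Col_le fun _ e a => x_mem_All e a)

theorem a_mem (a : A) : x 0 1 a ∈ U3 x := mem_sup_left (x_mem_Row (by decide) a)

theorem b_mem (a : A) : x 1 2 a ∈ U3 x := mem_sup_right (x_mem_Col (by decide) a)

theorem c_mem (a : A) : x 0 2 a ∈ U3 x := mem_sup_left (x_mem_Row (by decide) a)

/-- the Weyl element with a parameter -/
def nu (x : Fin 3 → Fin 3 → A → G) (i j : Fin 3) (c : Aˣ) : G :=
  x i j c * x j i ↑c⁻¹ * x i j c

/-- the torus element -/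
def hh (x : Fin 3 → Fin 3 → A → G) (i j : Fin 3) (c : Aˣ) : G := nu x i j c * n3 x i j

theorem nu_one (i j : Fin 3) : nu x i j 1 = n3 x i j := by simp [nu, n3]

theorem nu_mem {H : Subgroup G} {i j : Fin 3} (h1 : ∀ a, x i j a ∈ H) (h2 : ∀ a, x j i a ∈ H)
    (c : Aˣ) : nu x i j c ∈ H := mul_mem (mul_mem (h1 _) (h2 _)) (h1 _)

theorem hh_mem {H : Subgroup G} {i j : Fin 3} (h1 : ∀ a, x i j a ∈ H) (h2 : ∀ a, x j i a ∈ H)
    (c : Aˣ) : hh x i j c ∈ H := mul_mem (nu_mem h1 h2 c) (nu_one (x := x) i j ▸ nu_mem h1 h2 1)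

theorem Tor.mul {g g' : G} {d d' : Fin 3 → Aˣ} (h : Tor x g d) (h' : Tor x g' d') :
    Tor x (g * g') (d * d') := fun i j e a => by
  rw [show g * g' * x i j a * (g * g')⁻¹ = g * (g' * x i j a * g'⁻¹) * g⁻¹ by group, h' i j e,
    h i j e]
  congr 1
  simp only [Pi.mul_apply, mul_inv_rev, Units.val_mul]
  ring

namespace St3

variable (h : St3 x)
include h

theorem aa (a : A) : a + a = 0 := by rw [← two_mul, h.two, zero_mul]

theorem zero {i j : Fin 3} (e : i ≠ j) : x i j 0 = 1 := by simpa using h.add i j e 0 0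

theorem sq {i j : Fin 3} (e : i ≠ j) (a : A) : x i j a * x i j a = 1 := by
  rw [← h.add i j e, h.aa, h.zero e]

theorem inv {i j : Fin 3} (e : i ≠ j) (a : A) : (x i j a)⁻¹ = x i j a :=
  inv_eq_of_mul_eq_one_right (h.sq e a)

theorem inj' {i j : Fin 3} (e : i ≠ j) {a b : A} (hab : x i j a = x i j b) : a = b := by
  have := h.inj i j e (a + b) (by rw [h.add i j e, hab, h.sq e])
  linear_combination this - h.aa b

variable {i j k : Fin 3} (e1 : i ≠ j) (e2 : j ≠ k) (e3 : i ≠ k)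
include e1 e2 e3

theorem cj (a b : A) : x i j a * x j k b * (x i j a)⁻¹ = x i k (a * b) * x j k b := by
  rw [← h.rel i j k e1 e2 e3, commutatorElement_def]; group

theorem swp (a b : A) : x j k b * x i j a = x i j a * x j k b * x i k (a * b) := by
  have := h.rel i j k e1 e2 e3 a b
  rw [commutatorElement_def, h.inv e1, h.inv e2] at this
  calc x j k b * x i j a = x i j a * x j k b * (x j k b * x i j a * (x j k b * x i j a)) := by
        rw [mul_assoc, ← mul_assoc (x j k b), ← mul_assoc (x j k b), h.sq e2, one_mul, ← mul_assoc,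
          ← mul_assoc, h.sq e1, one_mul]
    _ = _ := by
        congr 1
        rw [← h.inv e3, ← this, mul_inv_rev, mul_inv_rev, mul_inv_rev, h.inv e1, h.inv e2]
        group

theorem cj' (a b : A) : x j k b * x i j a * (x j k b)⁻¹ = x i k (a * b) * x i j a := by
  rw [h.swp e1 e2 e3, mul_assoc (x i j a), ← (h.col i j k e3 e2 _ _).eq, ← mul_assoc,
    mul_inv_cancel_right, (h.row i j k e1 e3 _ _).eq]

theorem rel' (a b : A) : ⁅x j k b, x i j a⁆ = x i k (a * b) := by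
  rw [commutatorElement_def, h.cj' e1 e2 e3, mul_inv_cancel_right]

theorem mul (a b c a' b' c' : A) :
    x i j a * x j k b * x i k c * (x i j a' * x j k b' * x i k c') =
      x i j (a + a') * x j k (b + b') * x i k (c + c' + a' * b) := by
  have r1 := fun a b => (h.row i k j e3 e1 a b).eq
  have r2 := fun a b => (h.col i j k e3 e2 a b).eq
  calc _ = x i j a * (x j k b * x i j a') * (x i k c * x j k b') * x i k c' := by
        simp only [mul_assoc]; rw [← mul_assoc (x i k c), r1, mul_assoc]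
    _ = _ := by
        rw [h.swp e1 e2 e3, r2, h.add i j e1, h.add j k e2, add_comm (c + c'), h.add i k e3,
          h.add i k e3]
        simp only [mul_assoc]
        rw [← mul_assoc (x i k (a' * b)), r2, mul_assoc]

theorem one : x i j 0 * x j k 0 * x i k 0 = 1 := by simp [h.zero e1, h.zero e2, h.zero e3]

theorem inv3 (a b c : A) :
    (x i j a * x j k b * x i k c)⁻¹ = x i j a * x j k b * x i k (c + a * b) :=
  inv_eq_of_mul_eq_one_right (by
    rw [h.mul e1 e2 e3, h.aa, h.aa, show c + (c + a * b) + a * b = (c + a * b) + (c + a * b) by ring,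
      h.aa, h.one e1 e2 e3])

theorem sq3 (a b c : A) :
    x i j a * x j k b * x i k c * (x i j a * x j k b * x i k c) = x i k (a * b) := by
  rw [h.mul e1 e2 e3, h.aa, h.aa, h.aa, h.zero e1, h.zero e2, one_mul, one_mul, zero_add]

theorem comm3 (a b c a' b' c' : A) :
    ⁅x i j a * x j k b * x i k c, x i j a' * x j k b' * x i k c'⁆ = x i k (a * b' + a' * b) := by
  rw [commutatorElement_def, mul_assoc, ← mul_inv_rev, h.mul e1 e2 e3, h.mul e1 e2 e3,
    h.inv3 e1 e2 e3, h.mul e1 e2 e3, add_comm a' a, add_comm b' b, h.aa, h.aa, h.zero e1, h.zero e2,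
    one_mul, one_mul]
  congr 1
  linear_combination h.aa (c + c') + h.aa ((a + a') * (b + b'))

theorem eq_zero {a b c : A} (e : x i j a * x j k b * x i k c = 1) : a = 0 ∧ b = 0 ∧ c = 0 := by
  have h1 := h.comm3 e1 e2 e3 a b c 0 1 0
  have h2 := h.comm3 e1 e2 e3 a b c 1 0 0
  rw [e, commutatorElement_one_left] at h1 h2
  obtain rfl : a = 0 := by simpa using h.inj i k e3 _ h1.symm
  obtain rfl : b = 0 := by simpa using h.inj i k e3 _ h2.symm
  exact ⟨rfl, rfl, h.inj i k e3 _ (by simpa [h.zero e1, h.zero e2] using e)⟩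

theorem uniq {a b c a' b' c' : A} (e : x i j a * x j k b * x i k c = x i j a' * x j k b' * x i k c') :
    a = a' ∧ b = b' ∧ c = c' := by
  have := mul_inv_eq_one.2 e
  rw [h.inv3 e1 e2 e3, h.mul e1 e2 e3] at this
  obtain ⟨h1, h2, h3⟩ := h.eq_zero e1 e2 e3 this
  obtain rfl : a = a' := by linear_combination h1 - h.aa a'
  obtain rfl : b = b' := by linear_combination h2 - h.aa b'
  exact ⟨rfl, rfl, by linear_combination h3 - h.aa (c' + a * b)⟩

theorem memY (g : G) : g ∈ Y3 x i k ↔ ∃ a b c, g = x i j a * x j k b * x i k c := by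
  let S : Subgroup G :=
    { carrier := {g | ∃ a b c, g = x i j a * x j k b * x i k c}
      one_mem' := ⟨0, 0, 0, (h.one e1 e2 e3).symm⟩
      mul_mem' := by
        rintro _ _ ⟨a, b, c, rfl⟩ ⟨a', b', c', rfl⟩
        exact ⟨_, _, _, h.mul e1 e2 e3 ..⟩
      inv_mem' := by
        rintro _ ⟨a, b, c, rfl⟩
        exact ⟨_, _, _, h.inv3 e1 e2 e3 ..⟩ }
  refine ⟨fun hg => (?_ : _ ≤ S) hg, ?_⟩
  · refine sup_le (Row_le fun l e a => ?_) (Col_le fun l e a => ?_)
    · rcases fin3 i j k l e1 e2 e3 with rfl | rfl | rfl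
      exacts [absurd rfl e, ⟨a, 0, 0, by simp [h.zero e2, h.zero e3]⟩,
        ⟨0, 0, a, by simp [h.zero e1, h.zero e2]⟩]
    · rcases fin3 i j k l e1 e2 e3 with rfl | rfl | rfl
      exacts [⟨0, 0, a, by simp [h.zero e1, h.zero e2]⟩, ⟨0, a, 0, by simp [h.zero e1, h.zero e3]⟩,
        absurd rfl e]
  · rintro ⟨a, b, c, rfl⟩
    exact mul_mem (mul_mem (mem_sup_left (x_mem_Row e1 a)) (mem_sup_right (x_mem_Col e2 b)))
      (mem_sup_left (x_mem_Row e3 c))

theorem memR (g : G) : g ∈ Row x i ↔ ∃ a b, g = x i j a * x i k b := by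
  have m := h.mul e1 e2 e3
  let S : Subgroup G :=
    { carrier := {g | ∃ a b, g = x i j a * x i k b}
      one_mem' := ⟨0, 0, by simp [h.zero e1, h.zero e3]⟩
      mul_mem' := by
        rintro _ _ ⟨a, c, rfl⟩ ⟨a', c', rfl⟩
        exact ⟨_, _, by simpa [h.zero e2] using m a 0 c a' 0 c'⟩
      inv_mem' := by
        rintro _ ⟨a, c, rfl⟩
        exact ⟨_, _, by simpa [h.zero e2] using h.inv3 e1 e2 e3 a 0 c⟩ }
  refine ⟨fun hg => (?_ : _ ≤ S) hg, ?_⟩
  · refine Row_le fun l e a => ?_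
    rcases fin3 i j k l e1 e2 e3 with rfl | rfl | rfl
    exacts [absurd rfl e, ⟨a, 0, by simp [h.zero e3]⟩, ⟨0, a, by simp [h.zero e1]⟩]
  · rintro ⟨a, c, rfl⟩
    exact mul_mem (x_mem_Row e1 a) (x_mem_Row e3 c)

theorem memC (g : G) : g ∈ Col x k ↔ ∃ a b, g = x j k a * x i k b := by
  have m := h.mul e1 e2 e3
  let S : Subgroup G :=
    { carrier := {g | ∃ a b, g = x j k a * x i k b}
      one_mem' := ⟨0, 0, by simp [h.zero e2, h.zero e3]⟩
      mul_mem' := by
        rintro _ _ ⟨a, c, rfl⟩ ⟨a', c', rfl⟩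
        exact ⟨_, _, by simpa [h.zero e1] using m 0 a c 0 a' c'⟩
      inv_mem' := by
        rintro _ ⟨a, c, rfl⟩
        exact ⟨_, _, by simpa [h.zero e1] using h.inv3 e1 e2 e3 0 a c⟩ }
  refine ⟨fun hg => (?_ : _ ≤ S) hg, ?_⟩
  · refine Col_le fun l e a => ?_
    rcases fin3 i j k l e1 e2 e3 with rfl | rfl | rfl
    exacts [⟨0, a, by simp [h.zero e2]⟩, ⟨a, 0, by simp [h.zero e3]⟩, absurd rfl e]
  · rintro ⟨a, c, rfl⟩
    exact mul_mem (x_mem_Col e2 a) (x_mem_Col e3 c)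

omit h e1 e2 e3 in
theorem cj3 (p q r y : G) : p * q * r * y * (p * q * r)⁻¹ = p * (q * (r * y * r⁻¹) * q⁻¹) * p⁻¹ := by
  group

omit h e1 e2 e3 in
theorem cjm (p y z : G) : p * (y * z) * p⁻¹ = p * y * p⁻¹ * (p * z * p⁻¹) := by group

omit h e1 e2 e3 in
theorem cjc {p y : G} (c : Commute p y) : p * y * p⁻¹ = y := by rw [c.eq, mul_inv_cancel_right]

omit h e1 e2 e3 in
theorem sandwich {y z : G} (c : Commute y z) (s : y * y = 1) : y * z * y = z := by
  rw [c.eq, mul_assoc, s, mul_one]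

theorem nu_ik (c : Aˣ) (a : A) : nu x i j c * x i k a * (nu x i j c)⁻¹ = x j k (↑c⁻¹ * a) := by
  rw [nu, cj3, cjc (h.row i j k e1 e3 _ _), h.cj e1.symm e3 e2, cjm, h.cj e1 e2 e3,
    cjc (h.row i j k e1 e3 _ _), Units.mul_inv_cancel_left,
    sandwich (h.col i j k e3 e2 _ _) (h.sq e3 _)]

theorem nu_jk (c : Aˣ) (a : A) : nu x i j c * x j k a * (nu x i j c)⁻¹ = x i k (c * a) := by
  rw [nu, cj3, h.cj e1 e2 e3, cjm (x j i _), h.cj e1.symm e3 e2, cjc (h.row j i k e1.symm e2 _ _),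
    Units.inv_mul_cancel_left, sandwich (h.col j i k e2 e3 _ _) (h.sq e2 _),
    cjc (h.row i j k e1 e3 _ _)]

theorem nu_ki (c : Aˣ) (a : A) : nu x i j c * x k i a * (nu x i j c)⁻¹ = x k j (a * c) := by
  rw [nu, cj3, h.cj' e3.symm e1 e2.symm, cjm (x j i _), h.cj' e2.symm e1.symm e3.symm,
    cjc (h.col j k i e1.symm e3.symm _ _), Units.mul_inv_cancel_right,
    sandwich (h.row k i j e3.symm e2.symm _ _) (h.sq e3.symm _), cjc (h.col i k j e1 e2.symm _ _)]

theorem nu_kj (c : Aˣ) (a : A) : nu x i j c * x k j a * (nu x i j c)⁻¹ = x k i (a * ↑c⁻¹) := by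
  rw [nu, cj3, cjc (h.col i k j e1 e2.symm _ _), h.cj' e2.symm e1.symm e3.symm, cjm,
    h.cj' e3.symm e1 e2.symm, cjc (h.col i k j e1 e2.symm _ _), Units.inv_mul_cancel_right,
    sandwich (h.row k j i e2.symm e3.symm _ _) (h.sq e2.symm _)]

theorem nu_ij (c : Aˣ) (a : A) :
    nu x i j c * x i j a * (nu x i j c)⁻¹ = x j i (↑c⁻¹ * ↑c⁻¹ * a) := by
  rw [← mul_one a, ← h.rel i k j e3 e2.symm e1, conjugate_commutatorElement, h.nu_ik e1 e2 e3,
    h.nu_kj e1 e2 e3, h.rel j k i e2 e3.symm e1.symm]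
  congr 1; ring

theorem nu_ji (c : Aˣ) (a : A) : nu x i j c * x j i a * (nu x i j c)⁻¹ = x i j (c * c * a) := by
  rw [← mul_one a, ← h.rel j k i e2 e3.symm e1.symm, conjugate_commutatorElement, h.nu_jk e1 e2 e3,
    h.nu_ki e1 e2 e3, h.rel i k j e3 e2.symm e1]
  congr 1; ring

omit e2 e3

theorem nn (k l : Fin 3) (e : k ≠ l) (a : A) :
    n3 x i j * x k l a * (n3 x i j)⁻¹ = x (swap i j k) (swap i j l) a := by
  obtain ⟨m, e2, e3⟩ := third i j e1
  rw [← nu_one]
  rcases fin3 i j m k e1 e2 e3 with rfl | rfl | rfl <;>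
    rcases fin3 _ _ _ l e1 e2 e3 with rfl | rfl | rfl <;>
    simp_all [h.nu_ij e1 e2 e3, h.nu_ji e1 e2 e3, h.nu_ik e1 e2 e3, h.nu_jk e1 e2 e3,
      h.nu_ki e1 e2 e3, h.nu_kj e1 e2 e3, swap_apply_of_ne_of_ne e3.symm e2.symm]

theorem hh_conj (c : Aˣ) :
    Tor x (hh x i j c) fun l => if l = i then c else if l = j then c⁻¹ else 1 := fun k l e a => by
  obtain ⟨m, e2, e3⟩ := third i j e1
  rw [hh, show nu x i j c * n3 x i j * x k l a * (nu x i j c * n3 x i j)⁻¹ =
    nu x i j c * (n3 x i j * x k l a * (n3 x i j)⁻¹) * (nu x i j c)⁻¹ by group, h.nn e1 k l e]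
  rcases fin3 i j m k e1 e2 e3 with rfl | rfl | rfl <;>
    rcases fin3 _ _ _ l e1 e2 e3 with rfl | rfl | rfl <;>
    simp_all [h.nu_ij e1 e2 e3, h.nu_ji e1 e2 e3, h.nu_ik e1 e2 e3, h.nu_jk e1 e2 e3,
      h.nu_ki e1 e2 e3, h.nu_kj e1 e2 e3, swap_apply_of_ne_of_ne e3.symm e2.symm, e1.symm, e2.symm,
      e3.symm, mul_comm a]

theorem memX (g : G) : g ∈ X3 x i j ↔ ∃ a, g = x i j a := by
  let S : Subgroup G :=
    { carrier := {g | ∃ a, g = x i j a}
      one_mem' := ⟨0, (h.zero e1).symm⟩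
      mul_mem' := by
        rintro _ _ ⟨a, rfl⟩ ⟨a', rfl⟩
        exact ⟨_, (h.add i j e1 ..).symm⟩
      inv_mem' := by
        rintro _ ⟨a, rfl⟩
        exact ⟨_, h.inv e1 a⟩ }
  exact ⟨fun hg => (X_le (H := S) fun a => ⟨a, rfl⟩) hg, by rintro ⟨a, rfl⟩; exact x_mem_X i j a⟩

omit e1

theorem wey (π : Perm (Fin 3)) : ∃ n ∈ All x, ∀ i j, i ≠ j → ∀ a,
    n * x i j a * n⁻¹ = x (π i) (π j) a := by
  induction π using Perm.swap_induction_on with
  | one => exact ⟨1, one_mem _, by simp⟩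
  | swap_mul π k l e ih =>
    obtain ⟨n, hn, c⟩ := ih
    refine ⟨n3 x k l * n, mul_mem (nu_one (x := x) k l ▸ nu_mem (x_mem_All e) (x_mem_All e.symm) 1)
      hn, fun i j e' a => ?_⟩
    rw [show n3 x k l * n * x i j a * (n3 x k l * n)⁻¹ =
      n3 x k l * (n * x i j a * n⁻¹) * (n3 x k l)⁻¹ by group, c i j e', h.nn e _ _ (π.injective.ne e')]
    rfl

theorem tor (d : Fin 3 → Aˣ) (hd : d 0 * d 1 * d 2 = 1) : ∃ g ∈ All x, Tor x g d := by
  refine ⟨hh x 0 1 (d 0) * hh x 1 2 (d 2)⁻¹, mul_mem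
    (hh_mem (x_mem_All (by decide)) (x_mem_All (by decide)) _)
    (hh_mem (x_mem_All (by decide)) (x_mem_All (by decide)) _), ?_⟩
  convert (h.hh_conj (i := 0) (j := 1) (by decide) (d 0)).mul
    (h.hh_conj (i := 1) (j := 2) (by decide) (d 2)⁻¹) using 1
  funext l
  fin_cases l
  · simp
  · change d 1 = (d 0)⁻¹ * (d 2)⁻¹
    rw [← mul_inv, eq_inv_iff_mul_eq_one, ← hd]
    rw [mul_left_comm, mul_assoc]
  · simp

omit h in
theorem card_of {H : Subgroup G} {B : Type*} (f : B → G) (m : ∀ g, g ∈ H ↔ ∃ b, g = f b)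
    (i : Function.Injective f) : Nat.card H = Nat.card B :=
  (Nat.card_congr (Equiv.ofBijective (fun b => (⟨f b, (m _).2 ⟨b, rfl⟩⟩ : H))
    ⟨fun _ _ e => i (congrArg Subtype.val e), fun g => ((m g).1 g.2).imp fun _ e =>
      Subtype.ext e.symm⟩)).symm

theorem pin : Pin3 x where
  nn _ _ e := h.nn e
  wey := h.wey
  tor := h.tor
  memX _ _ e := h.memX e
  memR _ _ _ e1 e2 e3 := h.memR e1 e2 e3
  memC _ _ _ e1 e2 e3 := h.memC e1 e2 e3
  memY _ _ _ e1 e2 e3 := h.memY e1 e2 e3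
  uniq _ _ _ e1 e2 e3 _ _ _ _ _ _ := h.uniq e1 e2 e3
  mul _ _ _ e1 e2 e3 := h.mul e1 e2 e3
  cardX _ _ e := card_of _ (h.memX e) fun _ _ => h.inj' e
  cardR i := by
    obtain ⟨j, k, e1, e2, e3⟩ := other i
    rw [card_of (fun p : A × A => x i j p.1 * x i k p.2) (fun g => (h.memR e1 e2 e3 g).trans
      (by simp)) fun p q e => ?_, Nat.card_prod, pow_two]
    have := h.uniq e1 e2 e3 (a := p.1) (b := 0) (c := p.2) (a' := q.1) (b' := 0) (c' := q.2)
      (by simpa [h.zero e2] using e)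
    exact Prod.ext this.1 this.2.2
  cardC k := by
    obtain ⟨j, i, e1, e2, e3⟩ := other k
    rw [card_of (fun p : A × A => x j k p.1 * x i k p.2)
      (fun g => (h.memC e2.symm e1.symm e3.symm g).trans (by simp)) fun p q e => ?_, Nat.card_prod,
      pow_two]
    have := h.uniq e2.symm e1.symm e3.symm (a := 0) (b := p.1) (c := p.2) (a' := 0) (b' := q.1)
      (c' := q.2) (by simpa [h.zero e2.symm] using e)
    exact Prod.ext this.2.1 this.2.2
  cardY i k e := by
    obtain ⟨j, e2, e1⟩ := third i k e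
    rw [card_of (fun p : A × A × A => x i j p.1 * x j k p.2.1 * x i k p.2.2)
      (fun g => (h.memY e1 e2.symm e g).trans (by simp)) fun p q e' => ?_, Nat.card_prod,
      Nat.card_prod, pow_succ', pow_two]
    have := h.uniq e1 e2.symm e e'
    exact Prod.ext this.1 (Prod.ext this.2.1 this.2.2)
  two i k e g := by
    obtain ⟨j, e2, e1⟩ := third i k e
    obtain ⟨a, b, c, e'⟩ := (h.memY e1 e2.symm e _).1 g.2
    refine ⟨2, Subtype.ext ?_⟩
    change g.1 ^ (2 * 2) = 1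
    rw [pow_mul, pow_two, pow_two, e', h.sq3 e1 e2.symm e, h.sq e]
  perf := le_antisymm (commutator_le.2 fun _ ha _ hb => mul_mem (mul_mem (mul_mem ha hb)
    (inv_mem ha)) (inv_mem hb)) (All_le fun i k e a => by
      obtain ⟨j, e2, e1⟩ := third i k e
      rw [← mul_one a, ← h.rel i j k e1 e2.symm e]
      exact commutator_mem_commutator (x_mem_All e1 _) (x_mem_All e2.symm _))

theorem flip : St3 (fl x true) where
  two := h.two
  add i j e := h.add _ _ (Fin.rev_injective.ne e.symm)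
  rel i j k e1 e2 e3 a b := by
    have := h.rel' (Fin.rev_injective.ne e2.symm) (Fin.rev_injective.ne e1.symm)
      (Fin.rev_injective.ne e3.symm) b a
    rw [mul_comm] at this
    exact this
  row i j k e1 e2 := h.col _ _ _ (Fin.rev_injective.ne e1.symm) (Fin.rev_injective.ne e2.symm)
  col i j k e1 e2 := h.row _ _ _ (Fin.rev_injective.ne e1.symm) (Fin.rev_injective.ne e2.symm)
  inj i j e := h.inj _ _ (Fin.rev_injective.ne e.symm)

theorem memU (g : G) : g ∈ U3 x ↔ ∃ a b c, g = x 0 1 a * x 1 2 b * x 0 2 c :=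
  h.memY (by decide) (by decide) (by decide) g

end St3

end Ring

theorem pin3 : PinStmt3.{u, v} := fun _ h => h.pin

section Field

variable {F : Type v} [Field F] {G : Type u} [Group G] {x : Fin 3 → Fin 3 → F → G} (h : St3 x)
include h

namespace St3

theorem comU (a b c a' b' c' : F) :
    ⁅x 0 1 a * x 1 2 b * x 0 2 c, x 0 1 a' * x 1 2 b' * x 0 2 c'⁆ = x 0 2 (a * b' + a' * b) :=
  h.comm3 (by decide) (by decide) (by decide) ..

theorem a_eq (a : F) : x 0 1 a = x 0 1 a * x 1 2 0 * x 0 2 0 := by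
  simp [h.zero (show (1 : Fin 3) ≠ 2 by decide), h.zero (show (0 : Fin 3) ≠ 2 by decide)]

theorem b_eq (a : F) : x 1 2 a = x 0 1 0 * x 1 2 a * x 0 2 0 := by
  simp [h.zero (show (0 : Fin 3) ≠ 1 by decide), h.zero (show (0 : Fin 3) ≠ 2 by decide)]

theorem c_eq (a : F) : x 0 2 a = x 0 1 0 * x 1 2 0 * x 0 2 a := by
  simp [h.zero (show (0 : Fin 3) ≠ 1 by decide), h.zero (show (1 : Fin 3) ≠ 2 by decide)]

/-- elements of `U` with square one -/
theorem invol {u : G} (hu : u ∈ U3 x) (u2 : u * u = 1) : u ∈ Row x 0 ∨ u ∈ Col x 2 := by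
  obtain ⟨a, b, c, rfl⟩ := (h.memU u).1 hu
  rw [h.sq3 (by decide) (by decide) (by decide)] at u2
  rcases mul_eq_zero.1 (h.inj 0 2 (by decide) _ u2) with rfl | rfl
  · right
    rw [h.zero (by decide), one_mul]
    exact mul_mem (x_mem_Col (by decide) _) (x_mem_Col (by decide) _)
  · left
    rw [h.zero (by decide), mul_one]
    exact mul_mem (x_mem_Row (by decide) _) (x_mem_Row (by decide) _)

/-- the centre of `U` -/
theorem central {u : G} (hu : u ∈ U3 x) (c1 : Commute u (x 0 1 1)) (c2 : Commute u (x 1 2 1)) :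
    ∃ c, u = x 0 2 c := by
  obtain ⟨a, b, c, rfl⟩ := (h.memU u).1 hu
  rw [← commutatorElement_eq_one_iff_commute] at c1 c2
  rw [h.a_eq 1, h.comU] at c1
  rw [h.b_eq 1, h.comU] at c2
  obtain rfl : b = 0 := by simpa using h.inj 0 2 (by decide) _ c1
  obtain rfl : a = 0 := by simpa using h.inj 0 2 (by decide) _ c2
  exact ⟨c, (h.c_eq c).symm⟩

theorem c_comm (c : F) {u : G} (hu : u ∈ U3 x) : Commute (x 0 2 c) u := by
  obtain ⟨a, b, c', rfl⟩ := (h.memU u).1 hu
  rw [← commutatorElement_eq_one_iff_commute, h.c_eq c, h.comU]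
  simpa using h.zero (show (0 : Fin 3) ≠ 2 by decide)

theorem act [Finite F] {g : G} (hg : g ∈ N[U3 x]) : ∃ ε φ, Act x g ε φ := by
  have m := fun u (hu : u ∈ U3 x) => (h.memU _).1 ((mem_normalizer_iff.1 hg u).1 hu)
  choose a1 a2 a3 ha using fun s => m _ (a_mem s)
  choose b1 b2 b3 hb using fun s => m _ (b_mem s)
  have e02 : (0 : Fin 3) ≠ 2 := by decide
  have cm : ∀ r s, g * x 0 2 (r * s) * g⁻¹ = x 0 2 (a1 r * b2 s + b1 s * a2 r) := fun r s => by
    rw [← h.rel 0 1 2 (by decide) (by decide) e02, conjugate_commutatorElement, ha, hb, h.comU]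
  have caa : ∀ r s, a1 r * a2 s + a1 s * a2 r = 0 := fun r s => h.inj 0 2 e02 _ (by
    rw [← h.comU _ _ (a3 r) _ _ (a3 s), ← ha, ← ha, ← conjugate_commutatorElement,
      (h.row 0 1 1 (by decide) (by decide) r s).commutator_eq, mul_one, mul_inv_cancel])
  have cbb : ∀ r s, b1 r * b2 s + b1 s * b2 r = 0 := fun r s => h.inj 0 2 e02 _ (by
    rw [← h.comU _ _ (b3 r) _ _ (b3 s), ← hb, ← hb, ← conjugate_commutatorElement,
      (h.row 1 2 2 (by decide) (by decide) r s).commutator_eq, mul_one, mul_inv_cancel])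
  have sa : a1 1 * a2 1 = 0 := h.inj 0 2 e02 _ (by
    rw [← h.sq3 (j := 1) (by decide) (by decide) e02 _ _ (a3 1), ← ha, ← St3.cjm,
      h.sq (by decide), mul_one, mul_inv_cancel])
  have sb : b1 1 * b2 1 = 0 := h.inj 0 2 e02 _ (by
    rw [← h.sq3 (j := 1) (by decide) (by decide) e02 _ _ (b3 1), ← hb, ← St3.cjm,
      h.sq (by decide), mul_one, mul_inv_cancel])
  have ne : a1 1 * b2 1 + b1 1 * a2 1 ≠ 0 := fun e => by
    have := cm 1 1
    rw [e, h.zero e02, mul_inv_eq_one, mul_eq_left] at this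
    exact one_ne_zero ((one_mul (1 : F)).symm.trans (h.inj 0 2 e02 _ this))
  have ad : ∀ r s, a1 (r + s) = a1 r + a1 s ∧ a2 (r + s) = a2 r + a2 s := fun r s => by
    have := ha (r + s)
    rw [h.add 0 1 (by decide), St3.cjm, ha, ha, h.mul (by decide) (by decide) e02] at this
    have := h.uniq (by decide) (by decide) e02 this
    exact ⟨this.1.symm, this.2.1.symm⟩
  by_cases e : a2 1 = 0
  · rw [e, mul_zero, add_zero] at ne
    have n1 := left_ne_zero_of_mul ne
    have n2 := right_ne_zero_of_mul ne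
    have z1 : ∀ s, a2 s = 0 := fun s => by simpa [e, n1] using caa 1 s
    have z2 : ∀ s, b1 s = 0 := fun s => by
      simpa [(mul_eq_zero.1 sb).resolve_right n2, n2] using cbb 1 s
    obtain ⟨φ, c1, c2, p1, p2, p3⟩ := autotop a1 b2 (fun r => a1 r * b2 1) (fun r s => (ad r s).1)
      n1 n2 fun r s => by
        have := cm (r * s) 1
        rw [mul_one, cm r s] at this
        simpa [z1] using (h.inj' e02 this).symm
    refine ⟨false, φ, c1, c2, fun s => ⟨a3 s, ?_⟩, fun s => ⟨b3 s, ?_⟩, fun s => ?_⟩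
    · rw [ha, z1, p1, h.zero (by decide), mul_one]; rfl
    · rw [hb, z2, p2, h.zero (by decide), one_mul]; rfl
    · rw [← p3, ← mul_one s, cm, z1, mul_zero, add_zero, mul_one]
  · have e' := (mul_eq_zero.1 sa).resolve_right e
    rw [e', zero_mul, zero_add] at ne
    have n2 := left_ne_zero_of_mul ne
    have z1 : ∀ s, a1 s = 0 := fun s => by simpa [e, e'] using caa 1 s
    have z2 : ∀ s, b2 s = 0 := fun s => by
      simpa [(mul_eq_zero.1 sb).resolve_left n2, n2] using cbb 1 s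
    obtain ⟨φ, c1, c2, p1, p2, p3⟩ := autotop a2 b1 (fun r => a2 r * b1 1) (fun r s => (ad r s).2)
      e n2 fun r s => by
        have := cm (r * s) 1
        rw [mul_one, cm r s] at this
        simpa [z1, mul_comm] using (h.inj' e02 this).symm
    refine ⟨true, φ, c1, c2, fun s => ⟨a3 s, ?_⟩, fun s => ⟨b3 s, ?_⟩, fun s => ?_⟩
    · rw [ha, z1, p1, h.zero (by decide), one_mul]; rfl
    · rw [hb, z2, p2, h.zero (by decide), mul_one]; rfl
    · rw [← p3, ← mul_one s, cm, z1, zero_mul, zero_add, mul_one, mul_comm]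

end St3

end Field

theorem act3 : ActStmt.{u, v} := fun _ h _ hg => h.act hg

end Cfsg.Agent.H35.L3
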