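import Cfsg.Agent.H56.SpDefs

/-! Project CY, chapter SP, piece BB. -/

set_option autoImplicit false

namespace Cfsg.Agent.H35.SpBb

open Subgroup MulAction Cfsg.Agent.H11.Cy Cfsg.Agent.H56.Sp

variable {G : Type} [Group G] {Ω : Type} [MulAction G Ω] {p : ℕ} {A : Ω → Subgroup G}

theorem sym {x y x' y' : Ω} {z u : G} (h : Pr A x y x' y' z u) : Pr A x' y' x y u z :=
  ⟨h.ne', h.ne, h.hu, h.hz, h.zu.symm, h.cm.symm⟩

theorem hi (hy : Hy p A) {x y x' y' : Ω} {z u : G} (h : Pr A x y x' y' z u) :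
    Hi A x y u ∧ Fp A x y u :=
  hy.cz.hi x y h.ne z h.hz u ⟨x', y', h.ne', h.hu⟩ h.zu h.cm

theorem le (hy : Hy p A) {x y x' y' : Ω} {z u : G} (h : Pr A x y x' y' z u) :
    Tl A x' y' z ≤ Nl A x y := by
  intro t ht
  rw [← hy.cz.cz x y h.ne z h.hz]
  exact ht.2

theorem dic (hy : Hy p A) {x y x' y' : Ω} {z u : G} (h : Pr A x y x' y' z u) (t' : G)
    (ht' : t' ∈ Tl A x' y' z) :
    t' ∈ Cl A x y u ∨ ((∀ t ∈ Tl A x y u, t' * t * t'⁻¹ = t⁻¹) ∧ t' * t' ∈ Kl A x y) := by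
  have hu := hi hy h
  refine (hy.pg x y h.ne).dic u hu.1 hu.2 t' (le hy h ht') ?_
  have c : t' * u = u * t' :=
    mem_centralizer_iff.1 ((hy.lf x' y' h.ne').cen u h.hu) t' ht'.1
  have : t' * u * t'⁻¹ * u⁻¹ = 1 := by rw [c]; group
  rw [this]
  exact one_mem _

theorem cm (hy : Hy p A) {x y x' y' : Ω} {z u : G} (h : Pr A x y x' y' z u) (t : G)
    (ht : t ∈ Tl A x y u) (t' : G) (ht' : t' ∈ Tl A x' y' z) : t * t' = t' * t := by
  rcases dic hy h t' ht' with c | ⟨i1, k1⟩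
  · exact mem_centralizer_iff.1 c.2 t ht
  rcases dic hy (sym h) t ht with c | ⟨i2, -⟩
  · exact (mem_centralizer_iff.1 c.2 t' ht').symm
  have e1 := i1 t ht
  have e2 := i2 t' ht'
  have e3 : t * t'⁻¹ * t⁻¹ = t' := by
    have : t * t'⁻¹ * t⁻¹ = (t * t' * t⁻¹)⁻¹ := by group
    rw [this, e2, inv_inv]
  have e : t' * t' = t⁻¹ * t⁻¹ := by
    calc t' * t' = t' * (t * t'⁻¹ * t⁻¹) := by rw [e3]
      _ = (t' * t * t'⁻¹) * t⁻¹ := by group
      _ = t⁻¹ * t⁻¹ := by rw [e1]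
  have sF : t' * t' ∈ Fl A x y := by
    rw [e]
    exact mul_mem (inv_mem ht.1) (inv_mem ht.1)
  have s2 := (hy.lf x y h.ne).fk _ sF k1
  have s1 : t' * t' = 1 := by
    by_contra hn
    have a := (hy.lf x y h.ne).uq _ _ ⟨sF, hn, s2⟩ h.hz
    have b := (hy.lf x' y' h.ne').uq _ _ ⟨mul_mem ht'.1 ht'.1, hn, s2⟩ h.hu
    exact h.zu (b.symm.trans a)
  have t1 : t⁻¹ = t := by
    rw [s1] at e
    have : t⁻¹ * t⁻¹ * t = 1 * t := by rw [← e]
    simpa using this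
  rw [t1] at e1
  calc t * t' = (t' * t * t'⁻¹) * t' := by rw [e1]
    _ = t' * t := by group

theorem bb : BbStmt := by
  intro G _ _ Ω _ _ p A st hy x y x' y' z u h
  refine ⟨cm hy h, le hy h, ?_⟩
  have hu := hi hy h
  have hz := hi hy (sym h)
  obtain ⟨cy, cd⟩ := (hy.pg x' y' h.ne').tor z hz.1 hz.2
  obtain ⟨-, cd1⟩ := (hy.pg x y h.ne).tor u hu.1 hu.2
  obtain ⟨g, hg⟩ := IsCyclic.exists_generator (α := Tl A x' y' z)
  have og : orderOf g = p + 1 := by rw [orderOf_eq_card_of_forall_mem_zpowers hg, cd]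
  refine ⟨g, g.2, ?_⟩
  rintro ⟨f, hf, k, hk, e⟩
  obtain ⟨m, hm⟩ : ∃ m, p + 1 = m + m := (st.pp.odd_of_ne_two hy.mc.p2).add_one
  have fk : f * k = k * f := mem_centralizer_iff.1 hk f hf
  have fC : f ∈ Cl A x y u := by
    refine ⟨le_normalizer hf, mem_centralizer_iff.2 fun t ht => ?_⟩
    have a := cm hy h t ht g g.2
    have b : t * k = k * t := mem_centralizer_iff.1 hk t ht.1
    rw [e] at a
    have : t * f * k = f * t * k := by
      calc t * f * k = t * (f * k) := by group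
        _ = f * k * t := a
        _ = f * (k * t) := by group
        _ = f * (t * k) := by rw [b]
        _ = f * t * k := by group
    exact mul_right_cancel this
  have fT := ((hy.pg x y h.ne).cyc u hu.1 hu.2).1 f hf fC
  have f1 : f ^ m * f ^ m = 1 := by
    rw [← pow_add, ← hm, ← cd1]
    have := pow_card_eq_one' (x := (⟨f, fT⟩ : Tl A x y u))
    exact congrArg Subtype.val this
  have fK : f ^ m ∈ Kl A x y := by
    by_cases e1 : f ^ m = 1
    · rw [e1]; exact one_mem _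
    · exact (hy.lf x y h.ne).cen _ ⟨pow_mem hf m, e1, f1⟩
  have og' : orderOf (g : G) = p + 1 := by rw [← og]; exact orderOf_coe g
  have g1 : (g : G) ^ m * (g : G) ^ m = 1 := by
    rw [← pow_add, ← hm, ← og']
    exact pow_orderOf_eq_one _
  have g2 : (g : G) ^ m ≠ 1 := pow_ne_one_of_lt_orderOf (by omega) (by omega)
  have gu := (hy.lf x' y' h.ne').uq _ _ ⟨pow_mem g.2.1 m, g2, g1⟩ h.hu
  apply hu.1.2.2
  rw [← gu, e, Commute.mul_pow fk]
  exact mul_mem fK (pow_mem hk m)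

end Cfsg.Agent.H35.SpBb
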